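/-
Minimal non-CA-groups: definitions.
-/
import Mathlib
import Cfsg.Prelude.Def_KGroupFacts
import Cfsg.Prelude.Def_CaseTheorems

set_option autoImplicit false

namespace Cfsg.Agent.CAm

open Subgroup

/-- Centralizers of non-central elements are abelian. -/
def CA (G : Type*) [Group G] : Prop :=
  ∀ x h y z : G, x * h ≠ h * x → x * y = y * x → x * z = z * x → y * z = z * y

/-- Every proper subgroup is a CA-group. -/
def MC (G : Type*) [Group G] : Prop :=
  ∀ H : Subgroup G, H ≠ ⊤ → ∀ x ∈ H, ∀ h ∈ H, ∀ y ∈ H, ∀ z ∈ H,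
    x * h ≠ h * x → x * y = y * x → x * z = z * x → y * z = z * y

/-- Solvable normal subgroups are central. -/
def Rad (G : Type*) [Group G] : Prop :=
  ∀ Q : Subgroup G, Q.Normal → Group.IsSolvable Q → Q ≤ center G

variable {G G' : Type*} [Group G] [Group G']

theorem CA.of_inj (h : CA G) (f : G' →* G) (hf : Function.Injective f) : CA G' := fun x k y z h1 h2 h3 =>
  hf (by
    rw [map_mul, map_mul]
    exact h (f x) (f k) _ _ (fun e => h1 (hf (by rw [map_mul, map_mul, e])))
      (by rw [← map_mul, ← map_mul, h2]) (by rw [← map_mul, ← map_mul, h3]))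

theorem MC.ca (h : MC G) {H : Subgroup G} (hH : H ≠ ⊤) : CA H := fun x k y z h1 h2 h3 =>
  Subtype.ext (h H hH x x.2 k k.2 y y.2 z z.2 (fun e => h1 (Subtype.ext e)) (congrArg Subtype.val h2)
    (congrArg Subtype.val h3))

theorem mc_of (h : ∀ H : Subgroup G, H ≠ ⊤ → CA H) : MC G := fun H hH x hx k hk y hy z hz h1 h2 h3 =>
  congrArg Subtype.val (h H hH ⟨x, hx⟩ ⟨k, hk⟩ ⟨y, hy⟩ ⟨z, hz⟩ (fun e => h1 (congrArg Subtype.val e))
    (Subtype.ext h2) (Subtype.ext h3))

theorem CA.mc (h : CA G) : MC G := mc_of fun H _ => h.of_inj H.subtype H.subtype_injective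

theorem MC.of_inj (h : MC G) (f : G' →* G) (hf : Function.Injective f) : MC G' := mc_of fun H hH =>
  (h.ca (H := H.map f) fun e => hH (eq_top_iff.2 fun x _ => by
    obtain ⟨y, hy, e⟩ := mem_map.1 (e ▸ mem_top (f x) : f x ∈ H.map f)
    exact hf e ▸ hy)).of_inj (H.equivMapOfInjective f hf).toMonoidHom (H.equivMapOfInjective f hf).injective

theorem MC.sub (h : MC G) (K : Subgroup G) : MC K := h.of_inj K.subtype K.subtype_injective

theorem ca_iff : CA G ↔ ∀ x : G, x ∉ center G → IsMulCommutative (centralizer ({x} : Set G)) := by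
  refine ⟨fun h x hx => ?_, fun h x k y z h1 h2 h3 => ?_⟩
  · obtain ⟨k, hk⟩ := not_forall.1 (mt mem_center_iff.2 hx)
    exact ⟨⟨fun y z => Subtype.ext (h x k y z (fun e => hk e.symm) (mem_centralizer_singleton_iff.1 y.2).symm
      (mem_centralizer_singleton_iff.1 z.2).symm)⟩⟩
  · exact congrArg Subtype.val ((h x fun e => h1 (mem_center_iff.1 e k).symm).1.1
      ⟨y, mem_centralizer_singleton_iff.2 h2.symm⟩ ⟨z, mem_centralizer_singleton_iff.2 h3.symm⟩)

end Cfsg.Agent.CAm
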