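import Cfsg.Agent.CAm.C0
import Cfsg.Agent.S2086
import Cfsg.Agent.S0810
import Cfsg.Agent.H3.Fusion
import Cfsg.Agent.H12.Transport

set_option autoImplicit false

namespace Cfsg.Agent.CAm

open Subgroup

variable {F : Type} [Field F] [Fintype F]

theorem sub5 (h : MC (Matrix.ProjectiveSpecialLinearGroup (Fin 2) F)) {r k m : ℕ} (hr : r.Prime)
    (r2 : r ≠ 2) (hk : k ≠ 0) (hm : 2 ≤ m) (e : Fintype.card F = r ^ (k * m)) : r ^ k ≤ 5 := by
  by_contra h5
  have : Fact r.Prime := ⟨hr⟩
  have := Fintype.ofFinite (GaloisField r k)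
  have hK : Fintype.card (GaloisField r k) = r ^ k := by
    rw [← Nat.card_eq_fintype_card, GaloisField.card r k hk]
  obtain ⟨f⟩ := H12.nonempty_ringHom_of_card_pow (F := F) (K := GaloisField r k) (m := m)
    (by simp [hK, e, pow_mul])
  let i := MonoidHom.ofInjective (H12.psl2_map_injective f)
  have h1 := h.ca (H := (H12.pslMap (Fin 2) f).range) (fun htop => by
    have := S0810.card_lt (by omega) (by
      rw [pow_mul]; exact Nat.pow_le_pow_right (by omega) hm) (H12.card_PSL2 e) (H12.card_PSL2 hK)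
    rw [Nat.card_congr i.toEquiv, htop, Subgroup.card_top] at this
    omega)
  exact nca (F := GaloisField r k) (hK ▸ (hr.odd_of_ne_two r2).pow) (by omega)
    (h1.of_inj i.toMonoidHom i.injective)

theorem ar (h : MC (Matrix.ProjectiveSpecialLinearGroup (Fin 2) F))
    (nc : ¬ CA (Matrix.ProjectiveSpecialLinearGroup (Fin 2) F)) (_h3 : 3 < Fintype.card F)
    (ab : ∀ T : Sylow 2 (Matrix.ProjectiveSpecialLinearGroup (Fin 2) F),
      IsMulCommutative (T : Subgroup (Matrix.ProjectiveSpecialLinearGroup (Fin 2) F))) :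
    ((Fintype.card F).Prime ∧ 5 < Fintype.card F ∧ ¬ 16 ∣ Fintype.card F ^ 2 - 1) ∨
      ∃ p : ℕ, p.Prime ∧ p ≠ 2 ∧ (Fintype.card F = 3 ^ p ∨ Fintype.card F = 5 ^ p) := by
  have h0 : ¬ ((2 : F) = 0 ∨ Fintype.card F ≤ 5) := fun q => nc (ca_iff.2 fun x hx =>
    cab x (fun e => hx (e ▸ one_mem _)) (Or.inr q))
  rw [not_or, not_le] at h0
  have ho := two_ne_iff.1 h0.1
  obtain ⟨T⟩ : Nonempty (Sylow 2 (Matrix.ProjectiveSpecialLinearGroup (Fin 2) F)) := inferInstance
  have h16 := (syl16 ho T).1 (ab T)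
  obtain ⟨r, -, ⟨f, f0⟩, hr, e⟩ := FiniteField.card' F
  change _ = r ^ f at e
  have r2 : r ≠ 2 := by
    rintro rfl
    rw [e, ← Nat.not_even_iff_odd] at ho
    exact ho (Nat.even_pow.2 ⟨even_two, f0.ne'⟩)
  by_cases f1 : f = 1
  · left
    rw [f1, pow_one] at e
    exact ⟨e ▸ hr, h0.2, h16⟩
  · right
    have r5 := sub5 h hr r2 one_ne_zero (m := f) (by omega) (by rw [e, one_mul])
    rw [pow_one] at r5
    have r35 : r = 3 ∨ r = 5 := by
      have := hr.two_le
      interval_cases r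
      · exact absurd rfl r2
      · exact Or.inl rfl
      · exact absurd hr (by decide)
      · exact Or.inr rfl
    refine ⟨f, ?_, ?_, r35.imp (fun q => by rw [e, q]) fun q => by rw [e, q]⟩
    · by_contra hf
      obtain ⟨k, ⟨m, hm⟩, k2, kf⟩ := Nat.exists_dvd_of_not_prime2 (by omega) hf
      have m2 : 2 ≤ m := by
        rcases m with _ | _ | m
        · omega
        · omega
        · omega
      have := sub5 h hr r2 (k := k) (by omega) m2 (by rw [e, hm])
      have h9 : 3 ^ 2 ≤ r ^ k := (Nat.pow_le_pow_left (by omega) 2).trans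
        (Nat.pow_le_pow_right (by omega) k2)
      omega
    · rintro rfl
      rcases r35 with rfl | rfl <;> rw [e] at h16 <;> exact h16 (by norm_num)

theorem z1 {G : Type} [Group G] [Finite G] (q : IsQuasisimple G)
    (e : (G ⧸ center G) ≃* Matrix.ProjectiveSpecialLinearGroup (Fin 2) F)
    (ho : Odd (Fintype.card F)) (h5 : 5 < Fintype.card F) (T : Sylow 2 G)
    (ab : IsMulCommutative (T : Subgroup G)) : center G = ⊥ := by
  let σ := e.toMonoidHom.comp (QuotientGroup.mk' (center G))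
  have sur : Function.Surjective σ := e.surjective.comp (QuotientGroup.mk'_surjective _)
  have hk : σ.ker = center G := by
    ext g
    simp [σ, MonoidHom.mem_ker]
  have hc : commutator G = ⊤ := q.1.commutator_eq_top
  have h16 := (syl16 ho (T.mapSurjective sur)).1 ⟨⟨by
    rintro ⟨_, a, ha, rfl⟩ ⟨_, b, hb, rfl⟩
    apply Subtype.ext
    change σ a * σ b = σ b * σ a
    rw [← map_mul, ← map_mul]
    exact congrArg (fun t : (T : Subgroup G) => σ t) (ab.1.1 ⟨a, ha⟩ ⟨b, hb⟩)⟩⟩
  have h9 : Fintype.card F ≠ 9 := fun q => h16 (by rw [q]; norm_num)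
  obtain ⟨π, hπ⟩ := (S2086.result (F := F) rfl 2 le_rfl (fun _ => by omega) (by
    simp only [Set.mem_insert_iff, Set.mem_singleton_iff, Prod.mk.injEq]
    omega)).2 G σ ⟨sur, hk.le, hc ▸ le_top⟩
  have hd := card_dvd_of_surjective π hπ
  have hg : Nat.gcd 2 (Fintype.card F - 1) = 2 := Nat.gcd_eq_left (by
    have := Nat.odd_iff.1 ho; omega)
  rw [hk, Nat.card_congr Multiplicative.toAdd, Nat.card_zmod, hg] at hd
  obtain ⟨j, -, hj⟩ := (Nat.dvd_prime_pow Nat.prime_two (m := 1)).1 hd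
  have hZ : center G ≤ T := (IsPGroup.of_card hj).le_sylow_of_normal T
  have := H3.inf_commutator_inf_center_eq_bot (T : Subgroup G) ab T.card_coprime_index
  rwa [hc, inf_top_eq, inf_eq_right.2 hZ] at this

end Cfsg.Agent.CAm
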