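import Cfsg.Agent.CAm.A
import Cfsg.Agent.S0215
import Cfsg.Agent.S0205

set_option autoImplicit false

namespace Cfsg.Agent.CAm

open Subgroup

theorem as_burn {K : Type} [Group K] [Finite K] (hK : Group.IsPerfect K) {p : ℕ} [Fact p.Prime]
    (P : Sylow p K) (hP : (P : Subgroup K) ≠ ⊥) :
    ¬ normalizer (P : Set K) ≤ centralizer (P : Set K) := by
  intro hN
  have h1 := MonoidHom.ker_transferSylow_disjoint P hN P P.2
  have h2 : commutator K ≤ (MonoidHom.transferSylow P hN).ker := by
    rw [commutator_def, commutator_le]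
    intro a _ b _
    rw [MonoidHom.mem_ker, map_commutatorElement, commutatorElement_eq_one_iff_mul_comm]
    exact Subtype.ext (hN (le_normalizer (MonoidHom.transferSylow P hN b).2) _
      (MonoidHom.transferSylow P hN a).2)
  rw [Group.isPerfect_def.mp hK, top_le_iff] at h2
  rw [h2, top_disjoint] at h1
  exact hP h1

variable {G : Type} [Group G] [Finite G]

theorem as_core (L : Subgroup G) (hp : ⁅L, L⁆ = L) (hL : L ≠ ⊥) :
    ∃ H : Subgroup G, H ≠ ⊤ ∧ centralizer (L : Set G) ≤ H ∧ (L.Normal → H ⊔ L = ⊤) ∧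
      ∃ y ∈ H, ∃ z ∈ H, y ∈ L ∧ z ∈ L ∧ y * z ≠ z * y := by
  have hperf : Group.IsPerfect L := isPerfect_iff.mpr hp
  haveI : Nontrivial L := (nontrivial_iff_ne_bot L).mpr hL
  have hnn : ¬ Group.IsNilpotent L := fun hn => by
    haveI := hn
    have := IsSolvable.commutator_lt_top_of_nontrivial L
    rw [Group.isPerfect_def.mp hperf] at this
    exact lt_irrefl _ this
  have h3 : ¬ ∀ (p : ℕ) (_ : Fact p.Prime) (P : Sylow p L), (P : Subgroup L).Normal :=
    fun h => hnn (((Group.isNilpotent_of_finite_tfae (G := L)).out 3 0).mp h)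
  push Not at h3
  obtain ⟨p, hpp, P, hPn⟩ := h3
  have hP0 : (P : Subgroup L) ≠ ⊥ := fun h => hPn (by rw [h]; infer_instance)
  have hb := as_burn hperf P hP0
  rw [SetLike.le_def] at hb
  push Not at hb
  obtain ⟨y, hy, hy'⟩ := hb
  rw [mem_centralizer_iff] at hy'
  push Not at hy'
  obtain ⟨z, hz, hzy⟩ := hy'
  refine ⟨normalizer (((P : Subgroup L).map L.subtype : Subgroup G) : Set G), fun h => hPn ?_, ?_,
    fun _ => P.normalizer_sup_eq_top, y, ?_, z, le_normalizer ⟨z, hz, rfl⟩, y.2, z.2,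
    fun e => hzy (Subtype.ext e.symm)⟩
  · have := (normalizer_eq_top_iff.mp h).comap L.subtype
    rwa [comap_map_eq_self_of_injective L.subtype_injective] at this
  · exact (centralizer_le (map_subtype_le _)).trans (centralizer_le_normalizer _)
  · exact le_normalizer_map L.subtype ⟨y, hy, rfl⟩

theorem cenL (h : MC G) (L : Subgroup G) [hn : L.Normal] (hp : ⁅L, L⁆ = L) (hL : L ≠ ⊥) :
    centralizer (L : Set G) ≤ center G := by
  obtain ⟨H, hH, hc, hs, y, hy, z, hz, hyL, hzL, hyz⟩ := as_core L hp hL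
  intro a ha
  have h1 : H ≤ centralizer ({a} : Set G) := fun k hk => by
    rw [mem_centralizer_singleton_iff]
    by_contra e
    exact hyz (h H hH a (hc ha) k hk y hy z hz (fun e' => e e'.symm) (ha y hyL).symm (ha z hzL).symm)
  have h2 : L ≤ centralizer ({a} : Set G) := fun k hk => mem_centralizer_singleton_iff.2 (ha k hk)
  have h3 := sup_le h1 h2
  rw [hs hn] at h3
  exact mem_center_iff.2 fun g => mem_centralizer_singleton_iff.1 (h3 (mem_top g))

theorem two (h : MC G) (K1 K2 : Subgroup G) (p1 : ⁅K1, K1⁆ = K1) (p2 : ⁅K2, K2⁆ = K2) (n1 : K1 ≠ ⊥)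
    (n2 : K2 ≠ ⊥) (c : ∀ a ∈ K1, ∀ b ∈ K2, a * b = b * a) : False := by
  obtain ⟨H, hH, hc, -, y, hy, z, hz, hyL, hzL, hyz⟩ := as_core K1 p1 n1
  have h2 : K2 ≤ H := fun b hb => hc fun a ha => c a ha b hb
  apply n2
  rw [← p2, commutator_eq_bot_iff_le_centralizer]
  intro a ha k hk
  by_contra e
  exact hyz (h H hH a (h2 ha) k (h2 hk) y hy z hz (fun e' => e e'.symm) (c y hyL a ha).symm
    (c z hzL a ha).symm)

omit [Finite G] in
theorem as_solv (N : Subgroup G) (hN : ⁅N, N⁆ ≤ center G) : Group.IsSolvable N := by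
  refine ⟨⟨2, ?_⟩⟩
  rw [derivedSeries_succ, derivedSeries_one, commutator_eq_bot_iff_le_centralizer]
  intro a ha b hb
  have : (a : G) ∈ ⁅N, N⁆ := by rw [← map_subtype_commutator]; exact ⟨a, ha, rfl⟩
  exact Subtype.ext (mem_center_iff.1 (hN this) b)

theorem qs (h : MC G) (ns : ¬ Group.IsSolvable G) (hr : Rad G) :
    ∃ N : Subgroup G, N.Normal ∧ IsQuasisimple N ∧ N ≠ ⊥ ∧ centralizer (N : Set G) ≤ center G := by
  classical
  have htop : ¬ (⊤ : Subgroup G) ≤ center G := fun e =>
    ns (isSolvable_of_comm fun a b => mem_center_iff.1 (e (mem_top b)) a)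
  obtain ⟨N, ⟨hNn, hNc⟩, hNmin⟩ := (wellFounded_lt (α := Subgroup G)).has_min
    {N : Subgroup G | N.Normal ∧ ¬ N ≤ center G} ⟨⊤, inferInstance, htop⟩
  have hmin : ∀ M : Subgroup G, M.Normal → M ≤ N → ¬ M ≤ center G → M = N := fun M h1 h2 h3 =>
    (eq_or_lt_of_le h2).resolve_right (hNmin M ⟨h1, h3⟩)
  have hNN : ¬ ⁅N, N⁆ ≤ center G := fun e => hNc (hr N hNn (as_solv N e))
  have hp : ⁅N, N⁆ = N := hmin _ inferInstance (commutator_le_left N N) hNN
  have hN0 : N ≠ ⊥ := fun e => hNc (e ▸ bot_le)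
  have hC := cenL h N hp hN0
  -- every `N`-invariant noncentral subgroup of `N` is `N`
  have key : ∀ M : Subgroup G, M ≤ N → (∀ n ∈ N, ∀ m ∈ M, n * m * n⁻¹ ∈ M) → ¬ M ≤ center G → M = N := by
    intro M hM1 hM2 hM3
    obtain ⟨K, ⟨hK1, hK2, hK3⟩, hKmin⟩ := Set.exists_min_image
      {K : Subgroup G | K ≤ N ∧ (∀ n ∈ N, ∀ m ∈ K, n * m * n⁻¹ ∈ K) ∧ ¬ K ≤ center G}
      (fun K => Nat.card K) (Set.toFinite _) ⟨M, hM1, hM2, hM3⟩
    suffices hKN : K = N from
      eq_of_le_of_card_ge hM1 (by have := hKmin M ⟨hM1, hM2, hM3⟩; rwa [hKN] at this)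
    let c : G → Subgroup G := fun g => K.map (MulAut.conj g).toMonoidHom
    have hc : ∀ g x, x ∈ c g ↔ g⁻¹ * x * g ∈ K := fun g x => by
      constructor
      · rintro ⟨k, hk, rfl⟩; simpa [mul_assoc] using hk
      · intro hx; exact ⟨_, hx, by simp [mul_assoc]⟩
    have hcN : ∀ g, c g ≤ N := fun g x hx => by
      have := hNn.conj_mem _ (hK1 ((hc g x).1 hx)) g
      simpa [mul_assoc] using this
    have hcn : ∀ g, ∀ n ∈ N, ∀ m ∈ c g, n * m * n⁻¹ ∈ c g := fun g n hn m hm => by
      rw [hc] at hm ⊢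
      have := hK2 _ (hNn.conj_mem' n hn g) _ hm
      simpa [mul_assoc] using this
    have hcc : ∀ g, Nat.card (c g) = Nat.card K := fun g =>
      card_map_of_injective (MulAut.conj g).injective
    have hcomm : ∀ g, ⁅K, c g⁆ ≤ K ⊓ c g := fun g => by
      rw [commutator_le]
      intro a ha b hb
      refine ⟨?_, ?_⟩
      · have := K.mul_mem ha (hK2 b (hcN g hb) _ (K.inv_mem ha))
        simpa [commutatorElement_def, mul_assoc] using this
      · have := (c g).mul_mem (hcn g a (hK1 ha) b hb) ((c g).inv_mem hb)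
        simpa [commutatorElement_def, mul_assoc] using this
    have hdi : ∀ g, c g = K ∨ K ⊓ c g ≤ center G := fun g => by
      by_cases e : K ⊓ c g ≤ center G
      · exact Or.inr e
      · left
        have h1 := hKmin (K ⊓ c g) ⟨inf_le_left.trans hK1,
          fun n hn m hm => ⟨hK2 n hn m hm.1, hcn g n hn m hm.2⟩, e⟩
        have h2 : K ⊓ c g = K := eq_of_le_of_card_ge inf_le_left h1
        exact (eq_of_le_of_card_ge (h2 ▸ inf_le_right : K ≤ c g) (hcc g).le).symm
    by_cases hKK : ⁅K, K⁆ ≤ center G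
    · exfalso
      have h1 : ∀ g, ⁅K, c g⁆ ≤ center G := fun g => by
        rcases hdi g with e | e
        · rwa [e]
        · exact (hcomm g).trans e
      have hcl : normalClosure (K : Set G) = N :=
        hmin _ inferInstance (normalClosure_le_normal hK1) fun e => hK3 (le_normalClosure.trans e)
      let π := QuotientGroup.mk' (center G)
      have h2 : N ≤ (centralizer ((K.map π : Subgroup _) : Set (G ⧸ center G))).comap π := by
        rw [← hcl]
        refine (closure_le _).2 fun x hx => ?_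
        obtain ⟨k, hk, hx⟩ := Group.mem_conjugatesOfSet_iff.1 hx
        obtain ⟨g, rfl⟩ := isConj_iff.1 hx
        rintro _ ⟨a, ha, rfl⟩
        rw [← commutatorElement_eq_one_iff_mul_comm, ← map_commutatorElement, ← MonoidHom.mem_ker,
          QuotientGroup.ker_mk']
        exact h1 g (commutator_mem_commutator ha ⟨k, hk, by simp⟩)
      haveI : (N.map π).Normal := hNn.map π (QuotientGroup.mk'_surjective _)
      have h3 : N ≤ (centralizer ((N.map π : Subgroup _) : Set (G ⧸ center G))).comap π := by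
        conv_lhs => rw [← hcl]
        refine normalClosure_le_normal fun k hk => ?_
        rintro _ ⟨a, ha, rfl⟩
        exact (h2 ha (π k) ⟨k, hk, rfl⟩).symm
      apply hNN
      rw [commutator_le]
      intro a ha b hb
      rw [← QuotientGroup.ker_mk' (center G), MonoidHom.mem_ker, map_commutatorElement,
        commutatorElement_eq_one_iff_mul_comm]
      exact h3 hb (π a) ⟨a, ha, rfl⟩
    · have hle : ⁅K, K⁆ ≤ K := commutator_le_self K
      have hKp : ⁅K, K⁆ = K := eq_of_le_of_card_ge hle (hKmin _ ⟨hle.trans hK1, fun n hn m hm => by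
        have h1 : (⁅K, K⁆).map (MulAut.conj n).toMonoidHom ≤ ⁅K, K⁆ := by
          have h2 : K.map (MulAut.conj n).toMonoidHom ≤ K := by
            rintro _ ⟨k, hk, rfl⟩; exact hK2 n hn k hk
          rw [map_commutator]; exact commutator_mono h2 h2
        exact h1 ⟨m, hm, rfl⟩, hKK⟩)
      have hK0 : K ≠ ⊥ := fun e => hK3 (e ▸ bot_le)
      refine hmin K ⟨fun k hk g => ?_⟩ hK1 hK3
      rcases hdi g with e | e
      · rw [← e, hc]; simpa [mul_assoc] using hk
      · exfalso
        have hz : ⁅⁅K, c g⁆, K⁆ = ⊥ := by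
          rw [commutator_eq_bot_iff_le_centralizer]
          exact ((hcomm g).trans e).trans (center_le_centralizer _)
        have h0 : ⁅⁅K, K⁆, c g⁆ = ⊥ :=
          commutator_commutator_eq_bot_of_rotate hz (by rwa [commutator_comm (c g) K])
        rw [hKp, commutator_eq_bot_iff_le_centralizer] at h0
        refine two h K (c g) hKp ?_ hK0 (fun e0 => hK0 ?_) fun a ha b hb => (h0 ha b hb).symm
        · simp only [c]; rw [← map_commutator, hKp]
        · exact (map_eq_bot_iff_of_injective _ (MulAut.conj g).injective).1 e0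
  refine ⟨N, hNn, ⟨isPerfect_iff.mpr hp, ?_⟩, hN0, hC⟩
  have hnt : Nontrivial (N ⧸ center N) := by
    rw [QuotientGroup.nontrivial_iff]
    intro e
    apply hNc
    intro a ha
    exact hC fun b hb => congrArg Subtype.val (mem_center_iff.1 (e ▸ mem_top (⟨a, ha⟩ : N)) ⟨b, hb⟩)
  refine ⟨fun M hM => ?_⟩
  let π := QuotientGroup.mk' (center N)
  have hM' : (M.comap π).Normal := hM.comap π
  by_cases e : (M.comap π).map N.subtype ≤ center G
  · left
    rw [eq_bot_iff]
    intro x hx
    obtain ⟨y, rfl⟩ := QuotientGroup.mk'_surjective (center N) x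
    rw [mem_bot, ← MonoidHom.mem_ker, QuotientGroup.ker_mk']
    exact mem_center_iff.2 fun b => Subtype.ext (mem_center_iff.1 (e ⟨y, hx, rfl⟩) b)
  · right
    have h1 := key _ (map_subtype_le _) (by
      rintro n hn _ ⟨m, hm, rfl⟩
      exact ⟨_, hM'.conj_mem m hm ⟨n, hn⟩, rfl⟩) e
    rw [eq_top_iff]
    intro x _
    obtain ⟨y, rfl⟩ := QuotientGroup.mk'_surjective (center N) x
    obtain ⟨z, hz, hzy⟩ : (y : G) ∈ (M.comap π).map N.subtype := by rw [h1]; exact y.2
    obtain rfl : z = y := Subtype.ext hzy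
    exact hz

theorem as_perf {K : Type} [Group K] [IsSimpleGroup K] (nc : ¬ IsMulCommutative K) : Group.IsPerfect K := by
  rw [Group.isPerfect_def]
  refine (IsSimpleGroup.eq_bot_or_eq_top_of_normal (commutator K) inferInstance).resolve_left fun e => nc ?_
  rw [commutator_def, commutator_eq_bot_iff_le_centralizer] at e
  exact ⟨⟨fun a b => e (mem_top b) a (mem_top a)⟩⟩

theorem gen {K : Type} [Group K] [Finite K] [IsSimpleGroup K] (nc : ¬ IsMulCommutative K) {x : K}
    (hx : (orderOf x).Prime) (hc : IsMulCommutative (centralizer ({x} : Set K))) :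
    ∃ g ∈ normalizer (centralizer ({x} : Set K) : Set K), g * x ≠ x * g := by
  by_contra hh
  push Not at hh
  haveI : Fact (orderOf x).Prime := ⟨hx⟩
  set C := centralizer ({x} : Set K) with hCd
  have hxC : x ∈ C := mem_centralizer_singleton_iff.2 rfl
  have hz : IsPGroup (orderOf x) (zpowers (⟨x, hxC⟩ : C)) :=
    IsPGroup.of_card (n := 1) (by rw [Nat.card_zpowers, pow_one, ← Subgroup.orderOf_coe])
  obtain ⟨Q, hQ⟩ := hz.exists_le_sylow
  set R : Subgroup K := (Q : Subgroup C).map C.subtype with hRd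
  have hxR : x ∈ R := ⟨_, hQ (mem_zpowers _), rfl⟩
  have hCR : centralizer (R : Set K) = C := by
    refine le_antisymm (centralizer_le (by simpa using hxR)) fun a ha => ?_
    rintro _ ⟨b, -, rfl⟩
    exact congrArg Subtype.val (hc.1.1 b ⟨a, ha⟩)
  have hNC : normalizer (R : Set K) ≤ C := fun g hg => by
    refine mem_centralizer_singleton_iff.2 (hh g ?_)
    rw [← hCR]
    refine mem_normalizer_fintype fun a ha b hb => ?_
    have h1 := ha _ ((mem_normalizer_iff''.1 hg b).1 hb)
    calc b * (g * a * g⁻¹) = g * (g⁻¹ * b * g * a) * g⁻¹ := by group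
      _ = g * a * g⁻¹ * b := by rw [h1]; group
  have hRp : IsPGroup (orderOf x) R := Q.2.map _
  obtain ⟨n, hn⟩ := hRp.exists_card_eq
  have hidx : ¬ orderOf x ∣ R.index := fun hd => by
    have h1 : orderOf x ^ (n + 1) ∣ Nat.card K := by
      rw [← R.card_mul_index, hn, pow_succ]; exact Nat.mul_dvd_mul_left _ hd
    have h2 := (Sylow.prime_pow_dvd_card_normalizer h1 hn).trans (card_dvd_of_le hNC)
    have h3 : Nat.card (Q : Subgroup C) = orderOf x ^ n := by
      rw [← hn, hRd, card_map_of_injective C.subtype_injective]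
    rw [← (Q : Subgroup C).card_mul_index, h3, pow_succ] at h2
    exact Q.not_dvd_index (Nat.dvd_of_mul_dvd_mul_left (pow_pos hx.pos n) h2)
  refine as_burn (as_perf nc) (hRp.toSylow hidx) (fun e => ?_) ?_
  · have : x = 1 := by
      have e' : R = ⊥ := e
      rw [e'] at hxR; exact hxR
    rw [this, orderOf_one] at hx
    exact Nat.not_prime_one hx
  · show normalizer (R : Set K) ≤ centralizer (R : Set K)
    rw [hCR]; exact hNC

open scoped IsMulCommutative in
theorem z2 {K : Type} [Group K] [Finite K] (S : Subgroup K) [S.Normal] [IsSimpleGroup S]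
    (nc : ¬ IsMulCommutative S) (hC : centralizer (S : Set K) = ⊥) (hi : S.index = 2) (T : Sylow 2 K)
    (ab : IsMulCommutative (T : Subgroup K)) : False := by
  classical
  obtain ⟨t, ht, htS⟩ : ∃ t ∈ (T : Subgroup K), t ∉ S := by
    by_contra hh
    push Not at hh
    have h1 : S.index ∣ (T : Subgroup K).index := index_dvd_of_le hh
    rw [hi] at h1
    exact T.not_dvd_index h1
  let f := (T : Subgroup K).normalizerMonoidHom
  let A := f.range
  haveI : Fintype A := Fintype.ofFinite A
  have hA : Odd (Nat.card A) := by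
    have h1 : ((T : Subgroup K).subgroupOf (normalizer ((T : Subgroup K) : Set K))) ≤ f.ker := by
      rw [normalizerMonoidHom_ker]
      exact fun a ha => (T : Subgroup K).le_centralizer ha
    have h2 := index_dvd_of_le h1
    rw [index_ker] at h2
    have h3 := h2.trans (relIndex_dvd_index_of_le (le_normalizer (H := (T : Subgroup K))))
    rw [← Nat.not_even_iff_odd, even_iff_two_dvd]
    exact fun e => T.not_dvd_index (e.trans h3)
  let u : (T : Subgroup K) := ∏ α : A, (α : MulAut (T : Subgroup K)) ⟨t, ht⟩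
  have hfix : ∀ n ∈ normalizer ((T : Subgroup K) : Set K), n * u * n⁻¹ = u := fun n hn => by
    have h1 : f ⟨n, hn⟩ u = u := by
      simp only [u, map_prod]
      exact Fintype.prod_equiv (Equiv.mulLeft (⟨f ⟨n, hn⟩, ⟨n, hn⟩, rfl⟩ : A)) _ _ fun α => rfl
    exact congrArg Subtype.val h1
  have hcard : Nat.card (K ⧸ S) = 2 := hi
  haveI : Fact (Nat.Prime 2) := ⟨Nat.prime_two⟩
  haveI : IsCyclic (K ⧸ S) := isCyclic_of_prime_card hcard
  let χ : (T : Subgroup K) →* K ⧸ S := (QuotientGroup.mk' S).comp (T : Subgroup K).subtype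
  have hχ : ∀ α : A, χ ((α : MulAut (T : Subgroup K)) ⟨t, ht⟩) = χ ⟨t, ht⟩ := by
    rintro ⟨_, n, rfl⟩
    show QuotientGroup.mk' S ((n : K) * t * (n : K)⁻¹) = QuotientGroup.mk' S t
    rw [map_mul, map_mul, map_inv, mul_comm (QuotientGroup.mk' S n), mul_inv_cancel_right]
  have hu1 : u ≠ 1 := fun e => by
    have h1 : χ u = χ ⟨t, ht⟩ ^ Nat.card A := by
      simp only [u, map_prod, hχ, Finset.prod_const, Finset.card_univ, Nat.card_eq_fintype_card]
    obtain ⟨k, hk⟩ := hA
    have h2 : χ ⟨t, ht⟩ ^ 2 = 1 := by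
      have := pow_card_eq_one' (x := χ ⟨t, ht⟩)
      rwa [hcard] at this
    rw [e, map_one, hk, pow_succ, pow_mul, h2, one_pow, one_mul] at h1
    exact htS ((QuotientGroup.eq_one_iff t).1 h1.symm)
  have hd : 2 ∣ orderOf u := by
    obtain ⟨k, hk⟩ := (IsPGroup.iff_orderOf.mp T.2) u
    rcases k with _ | k
    · exact absurd (orderOf_eq_one_iff.1 (by rw [hk, pow_zero])) hu1
    · rw [hk]; exact dvd_pow_self 2 k.succ_ne_zero
  have hv := orderOf_pow_orderOf_div (orderOf_pos u).ne' hd
  set v := u ^ (orderOf u / 2) with hvd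
  have hv' : orderOf (v : K) = 2 := by rw [Subgroup.orderOf_coe, hv]
  obtain ⟨N₀, hN₀, hodd, hcom⟩ := S0215.result T v hv' v.2 fun g hg => by
    obtain ⟨n, hn, e⟩ := T.conj_eq_normalizer_conj_of_mem (v : K) g⁻¹ v.2 (by rwa [inv_inv])
    rw [inv_inv] at e
    have := hfix n⁻¹ (inv_mem hn)
    rw [e, hvd, Subgroup.coe_pow]
    conv_rhs => rw [← this, conj_pow, inv_inv]
  rcases IsSimpleGroup.eq_bot_or_eq_top_of_normal (N₀.subgroupOf S) inferInstance with e | e
  · have h1 : Disjoint S N₀ := (subgroupOf_eq_bot.1 e).symm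
    have h2 : N₀ = ⊥ := by
      rw [eq_bot_iff, ← hC]
      exact fun a ha b hb => commute_of_normal_of_disjoint S N₀ inferInstance hN₀ h1 b a hb ha
    have h3 : (v : K) ∈ centralizer (S : Set K) := fun b _ => by
      have := hcom b
      rw [h2, mem_bot, mul_inv_eq_one, mul_inv_eq_iff_eq_mul] at this
      exact this.symm
    rw [hC, mem_bot] at h3
    rw [h3, orderOf_one] at hv'
    norm_num at hv'
  · have h1 : Odd (Nat.card S) := hodd.of_dvd_nat (card_dvd_of_le (subgroupOf_eq_top.1 e))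
    haveI := S0205.result h1
    have := IsSolvable.commutator_lt_top_of_nontrivial S
    rw [Group.isPerfect_def.mp (as_perf nc)] at this
    exact lt_irrefl _ this

end Cfsg.Agent.CAm
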