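import Cfsg.Agent.CAm.A
import Cfsg.Agent.H15.Bin3
import Cfsg.Agent.H12.PSL2Dih
import Cfsg.Agent.S0276

set_option autoImplicit false

namespace Cfsg.Agent.CAm

open Subgroup
open scoped MatrixGroups

variable {F : Type} [Field F] [Fintype F]

theorem two_ne_iff : (2 : F) ≠ 0 ↔ Odd (Fintype.card F) := by
  obtain ⟨p, hp, n, hpp, hn⟩ := FiniteField.card' F
  rw [hn, show (2 : F) = ((2 : ℕ) : F) by norm_num, Ne, CharP.cast_eq_zero_iff F p,
    Nat.prime_dvd_prime_iff_eq hpp Nat.prime_two]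
  refine ⟨fun h => (hpp.odd_of_ne_two h).pow, fun h e => ?_⟩
  rw [e, ← Nat.not_even_iff_odd] at h
  exact h (Nat.even_pow.2 ⟨even_two, n.ne_zero⟩)

theorem cab (x : Matrix.ProjectiveSpecialLinearGroup (Fin 2) F) (h1 : x ≠ 1)
    (h2 : x * x ≠ 1 ∨ (2 : F) = 0 ∨ Fintype.card F ≤ 5) :
    IsMulCommutative (centralizer ({x} : Set (Matrix.ProjectiveSpecialLinearGroup (Fin 2) F))) := by
  by_cases h : (2 : F) = 0 ∨ x * x ≠ 1
  · exact ⟨⟨fun a b => Subtype.ext (H15.psl2_ct h1 h (mem_centralizer_singleton_iff.1 a.2)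
      (mem_centralizer_singleton_iff.1 b.2))⟩⟩
  · rw [not_or, not_not] at h
    have h5 : Fintype.card F ≤ 5 := by
      rcases h2 with q | q | q
      · exact absurd h.2 q
      · exact absurd q h.1
      · exact q
    obtain ⟨n, n0, hn⟩ := H12.exists_four_mul_eq (two_ne_iff.1 h.1)
    obtain ⟨a, s, hD, ho, -⟩ := H12.centralizer_invol h.1
      (orderOf_eq_prime (by rw [pow_two, h.2]) h1) hn
    have hc := hD.card
    obtain rfl : n = 1 := by omega
    exact IsPGroup.isMulCommutative_of_card_eq_prime_sq (p := 2) (by rw [hc, ho]; rfl)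

theorem nca (ho : Odd (Fintype.card F)) (h5 : 5 < Fintype.card F) :
    ¬ CA (Matrix.ProjectiveSpecialLinearGroup (Fin 2) F) := fun h => by
  have h2 := two_ne_iff.2 ho
  obtain ⟨n, n0, hn⟩ := H12.exists_four_mul_eq ho
  obtain ⟨x, hx⟩ := H12.exists_invol_psl2 (F := F)
  obtain ⟨a, s, hD, o, e⟩ := H12.centralizer_invol h2 hx hn
  have ha := mem_centralizer_singleton_iff.1 hD.left_mem
  have hs := mem_centralizer_singleton_iff.1 hD.right_mem
  obtain ⟨-, d1, d2, d3⟩ := hD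
  have s1 : s ≠ 1 := fun q => d3 (q ▸ one_mem _)
  obtain ⟨g, hg⟩ := isConj_iff.1 (H12.psl2_isConj_invol h2 hx (orderOf_eq_prime ((pow_two s).trans d1) s1))
  have n1 : x * g ≠ g * x := fun q => d3 (by
    rw [← hg, ← q, mul_inv_cancel_right, e]; exact pow_mem (mem_zpowers a) n)
  have c := h x g a s n1 ha.symm hs.symm
  rw [← c, mul_inv_cancel_right] at d2
  have := Nat.le_of_dvd two_pos (orderOf_dvd_of_pow_eq_one (x := a) (n := 2)
    (by rw [pow_two]; exact mul_eq_one_iff_eq_inv.2 d2))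
  omega

theorem syl16 (ho : Odd (Fintype.card F))
    (T : Sylow 2 (Matrix.ProjectiveSpecialLinearGroup (Fin 2) F)) :
    IsMulCommutative (T : Subgroup (Matrix.ProjectiveSpecialLinearGroup (Fin 2) F)) ↔
      ¬ 16 ∣ Fintype.card F ^ 2 - 1 := by
  have hm : ∀ q : ℕ, q % 2 = 1 → (16 ∣ q ^ 2 - 1 ↔ q % 8 = 1 ∨ q % 8 = 7) := fun q hq => by
    have q1 : 1 ≤ q ^ 2 := Nat.one_le_pow _ _ (by omega)
    rw [← Nat.modEq_iff_dvd' q1, Nat.ModEq, Nat.pow_mod]
    have : q % 16 < 16 := Nat.mod_lt _ (by norm_num)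
    have e2 : q % 2 = q % 16 % 2 := by omega
    have e8 : q % 8 = q % 16 % 8 := by omega
    rw [e8]; rw [e2] at hq
    generalize q % 16 = r at *
    interval_cases r <;> simp at hq ⊢
  have h0 := Nat.odd_iff.1 ho
  rw [hm _ h0]
  refine ⟨fun hT h8 => ?_, fun h => ?_⟩
  · have h2 := two_ne_iff.2 ho
    obtain ⟨n, n0, hn⟩ := H12.exists_four_mul_eq ho
    obtain ⟨x, hx⟩ := H12.exists_invol_psl2 (F := F)
    obtain ⟨a, s, ⟨-, d1, d2, d3⟩, o, -⟩ := H12.centralizer_invol h2 hx hn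
    obtain ⟨m, rfl⟩ : ∃ m, n = 2 * m := ⟨n / 2, by omega⟩
    have s1 : s ≠ 1 := fun q => d3 (q ▸ one_mem _)
    have ob : orderOf (a ^ m) = 4 := by
      rw [orderOf_pow' _ (by omega), o, show 2 * (2 * m) = 4 * m by ring, Nat.gcd_mul_left_left,
        Nat.mul_div_cancel _ (by omega)]
    have cb : s * a ^ m * s⁻¹ = (a ^ m)⁻¹ := by rw [← conj_pow, d2, inv_pow]
    generalize a ^ m = b at ob cb
    have p1 : IsPGroup 2 (zpowers s) := IsPGroup.of_card (n := 1)
      (by rw [Nat.card_zpowers, orderOf_eq_prime ((pow_two s).trans d1) s1]; rfl)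
    have p2 : IsPGroup 2 (zpowers b) := IsPGroup.of_card (n := 2)
      (by rw [Nat.card_zpowers, ob]; rfl)
    have nn : zpowers s ≤ normalizer (zpowers b : Set _) := by
      rw [zpowers_le]
      refine mem_normalizer_fintype fun y hy => ?_
      obtain ⟨k, rfl⟩ := mem_zpowers_iff.1 hy
      rw [← conj_zpow, cb]
      exact zpow_mem (inv_mem (mem_zpowers b)) k
    obtain ⟨Q, hQ⟩ := (p1.to_sup_of_normal_right' p2 nn).exists_le_sylow
    have hs := hQ (mem_sup_left (mem_zpowers s))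
    have hb := hQ (mem_sup_right (mem_zpowers b))
    have e := Sylow.equiv Q T
    have c : s * b = b * s := congrArg Subtype.val (e.injective (a₁ := ⟨s, hs⟩ * ⟨b, hb⟩)
      (a₂ := ⟨b, hb⟩ * ⟨s, hs⟩) (by rw [map_mul, map_mul]; exact hT.1.1 _ _))
    rw [c, mul_inv_cancel_right] at cb
    have := Nat.le_of_dvd two_pos (orderOf_dvd_of_pow_eq_one (x := b) (n := 2)
      (by rw [pow_two]; exact mul_eq_one_iff_eq_inv.2 cb))
    omega
  · have := S0276.result (F := F) rfl (by omega) T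
    exact IsKleinFour.isMulCommutative

end Cfsg.Agent.CAm
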