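import Cfsg.Agent.CAm.C0
import Cfsg.Agent.S0799
import Cfsg.Agent.H12.PGL2

set_option autoImplicit false

namespace Cfsg.Agent.CAm

open Subgroup MulAction
open scoped MatrixGroups

namespace CV

theorem ca_of_comm {G : Type*} [Group G] (h : ∀ a b : G, a * b = b * a) : CA G :=
  fun _ _ _ _ _ _ _ => h _ _

theorem ca_dih (k : ℕ) : CA (DihedralGroup k) := by
  rintro (i | i) (h | h) (j | j) (l | l) h1 h2 h3 <;>
    simp only [DihedralGroup.r_mul_r, DihedralGroup.r_mul_sr, DihedralGroup.sr_mul_r,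
      DihedralGroup.sr_mul_sr, DihedralGroup.r.injEq, DihedralGroup.sr.injEq, ne_eq] at * <;>
    first
      | exact add_comm _ _
      | exact absurd (add_comm _ _) h1
      | exact absurd (by linear_combination h2) h1
      | exact absurd (by linear_combination h3) h1
      | linear_combination h2
      | linear_combination -h2
      | linear_combination h3
      | linear_combination -h3
      | linear_combination h2 - h3
      | linear_combination h3 - h2

set_option synthInstance.maxSize 4000 in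
set_option maxRecDepth 100000 in
theorem a4 : ∀ x y : alternatingGroup (Fin 4), x * x = 1 → x ≠ 1 → x * y = y * x → y * y = 1 := by
  decide +kernel

set_option synthInstance.maxSize 4000 in
set_option maxRecDepth 100000 in
theorem a5 : ∀ x y : alternatingGroup (Fin 5), x * x = 1 → x ≠ 1 → x * y = y * x → y * y = 1 := by
  decide +kernel

theorem comm_of_sq {G : Type*} [Group G]
    (h : ∀ x y : G, x * x = 1 → x ≠ 1 → x * y = y * x → y * y = 1) {x y z : G} (h0 : x * x = 1)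
    (h1 : x ≠ 1) (h2 : x * y = y * x) (h3 : x * z = z * x) : y * z = z * y := by
  have e1 := h x y h0 h1 h2
  have e2 := h x z h0 h1 h3
  have e3 := h x (y * z) h0 h1 (by rw [← mul_assoc, h2, mul_assoc, h3, mul_assoc])
  calc y * z = (y * z)⁻¹ := eq_inv_of_mul_eq_one_left e3
    _ = z * y := by
      rw [mul_inv_rev, ← eq_inv_of_mul_eq_one_left e1, ← eq_inv_of_mul_eq_one_left e2]

theorem borel {F : Type*} [Field F] (h2 : (2 : F) ≠ 0) {x y z : PGL(2, F)} {ω : H12.P1 F}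
    (fx : x • ω = ω) (fy : y • ω = ω) (fz : z • ω = ω) (h0 : x * x = 1) (h1 : x ≠ 1)
    (hy : x * y = y * x) (hz : x * z = z * x) : y * z = z * y := by
  obtain ⟨k, rfl⟩ := H12.exists_pgl_point ω
  obtain ⟨a, b, ex⟩ := H12.exists_affPGL_of_fix (H12.conj_smul_eq_iff.2 fx)
  obtain ⟨c, d, ey⟩ := H12.exists_affPGL_of_fix (H12.conj_smul_eq_iff.2 fy)
  obtain ⟨c', d', ez⟩ := H12.exists_affPGL_of_fix (H12.conj_smul_eq_iff.2 fz)
  have m : ∀ u v : PGL(2, F), k⁻¹ * (u * v) * k = k⁻¹ * u * k * (k⁻¹ * v * k) := fun u v => by group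
  have e0 := m x x
  have e1 := (m x y).symm.trans ((congrArg (k⁻¹ * · * k) hy).trans (m y x))
  have e2 := (m x z).symm.trans ((congrArg (k⁻¹ * · * k) hz).trans (m z x))
  rw [h0, mul_one, inv_mul_cancel, ex, H12.affPGL_mul, eq_comm, H12.affPGL_eq_one] at e0
  rw [ex, ey, H12.affPGL_mul, H12.affPGL_mul, H12.affPGL_inj] at e1
  rw [ex, ez, H12.affPGL_mul, H12.affPGL_mul, H12.affPGL_inj] at e2
  have ha : (a : F) * a = 1 := by rw [← Units.val_mul, e0.1, Units.val_one]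
  have ha' : (a : F) = -1 := (mul_self_eq_one_iff.1 ha).resolve_left fun e => h1 (by
    have hb : b = 0 := by
      have := e0.2
      rw [e] at this
      exact (mul_eq_zero.1 (show 2 * b = 0 by linear_combination this)).resolve_left h2
    rw [H12.affPGL_eq_one.2 ⟨Units.ext e, hb⟩] at ex
    calc x = k * (k⁻¹ * x * k) * k⁻¹ := by group
      _ = 1 := by rw [ex]; group)
  have e3 : k⁻¹ * (y * z) * k = k⁻¹ * (z * y) * k := by
    rw [m, m, ey, ez, H12.affPGL_mul, H12.affPGL_mul, H12.affPGL_inj]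
    refine ⟨mul_comm _ _, mul_left_cancel₀ h2 ?_⟩
    have f1 := e1.2
    have f2 := e2.2
    rw [ha'] at f1 f2
    linear_combination ((c' : F) - 1) * f1 - ((c : F) - 1) * f2
  exact mul_left_cancel (mul_right_cancel e3)

theorem fixpt {F : Type} [Field F] [Fintype F] (p : ℕ) [hp : Fact p.Prime] [CharP F p]
    (P : Sylow p PSL(2, F)) : ∃ ω : H12.P1 F,
      ∀ g ∈ normalizer ((P : Subgroup PSL(2, F)) : Set PSL(2, F)), g • ω = ω := by
  obtain ⟨n, -, hn⟩ := FiniteField.card F p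
  have d1 : p ∣ Fintype.card F := hn ▸ dvd_pow_self p n.ne_zero
  obtain ⟨ω, hω⟩ := P.isPGroup'.nonempty_fixed_point_of_prime_not_dvd_card (H12.P1 F) (by
    rw [H12.card_P1, Nat.card_eq_fintype_card]
    exact fun e => hp.out.ne_one (Nat.dvd_one.1 ((Nat.dvd_add_right d1).1 e)))
  have d2 : p ∣ Nat.card PSL(2, F) := by
    have h1 := H12.card_PSL2 (F := F) rfl
    have h2 : Nat.gcd 2 (Fintype.card F - 1) ∣ Fintype.card F ^ 2 - 1 :=
      (Nat.gcd_dvd_right _ _).trans (Nat.sub_one_dvd_pow_sub_one _ _)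
    obtain ⟨c, hc⟩ := h2
    rw [hc, mul_left_comm] at h1
    rw [Nat.eq_of_mul_eq_mul_left (Nat.gcd_pos_of_pos_left _ two_pos) h1]
    exact d1.mul_right _
  obtain ⟨u, hu⟩ := exists_prime_orderOf_dvd_card' p (P.dvd_card_of_dvd_card d2)
  have u1 : (u : PSL(2, F)) ≠ 1 := fun e => hp.out.ne_one (by
    rw [← hu, ← orderOf_coe, e, orderOf_one])
  have u2 : (u : PSL(2, F)) ^ p = 1 := by
    rw [← orderOf_dvd_iff_pow_eq_one, orderOf_coe, hu]
  have u3 : Matrix.ProjectiveSpecialLinearGroup.toPGL (u : PSL(2, F)) ∈ H12.unip ω :=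
    (H12.mem_unip_iff p).2 ⟨(H12.toPGL_smul_proj _ _).trans (hω u), by rw [← map_pow, u2, map_one]⟩
  refine ⟨ω, fun g hg => ?_⟩
  have h1 : g⁻¹ * u * g⁻¹⁻¹ ∈ (P : Subgroup PSL(2, F)) :=
    (mem_normalizer_iff.1 (inv_mem hg) u).1 u.2
  have h2 : (g⁻¹ * u * g⁻¹⁻¹) • ω = ω := hω ⟨_, h1⟩
  rw [inv_inv, H12.conj_smul_eq_iff] at h2
  exact H12.eq_of_mem_unip_of_smul_eq u3 ((map_ne_one_iff _
    Matrix.ProjectiveSpecialLinearGroup.toPGL_injective).2 u1)
    ((H12.toPGL_smul_proj _ _).trans h2)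

theorem eight {k : ℕ} (h : Odd k) : 8 ∣ k ^ 2 - 1 := by
  obtain ⟨j, rfl⟩ := h
  obtain ⟨i, hi⟩ := Nat.even_mul_succ_self j
  exact ⟨i, Nat.sub_eq_of_eq_add (by nlinarith)⟩

theorem pw {l p : ℕ} (hl : l = 3 ∨ l = 5) (hp : p.Prime) (h2 : p ≠ 2) :
    Odd (l ^ p) ∧ 5 < l ^ p ∧ ¬ 16 ∣ (l ^ p) ^ 2 - 1 := by
  obtain ⟨j, rfl⟩ := hp.odd_of_ne_two h2
  have h3 : 2 ≤ 2 * j + 1 := hp.two_le
  refine ⟨Odd.pow (by rcases hl with rfl | rfl <;> decide), ?_, ?_⟩
  · calc 5 < 3 ^ 2 := by norm_num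
      _ ≤ l ^ 2 := Nat.pow_le_pow_left (by omega) 2
      _ ≤ _ := Nat.pow_le_pow_right (by omega) h3
  · have e : (l ^ (2 * j + 1)) ^ 2 = (l ^ 4) ^ j * l ^ 2 := by ring
    have e1 : (l ^ 4) ^ j % 16 = 1 := by
      rw [Nat.pow_mod]; rcases hl with rfl | rfl <;> simp
    have e2 : (l ^ (2 * j + 1)) ^ 2 % 16 = 9 := by
      rw [e, Nat.mul_mod, e1]; rcases hl with rfl | rfl <;> simp
    omega

end CV

theorem cv {F : Type} [Field F] [Fintype F]
    (hq : ((Fintype.card F).Prime ∧ 5 < Fintype.card F ∧ ¬ 16 ∣ Fintype.card F ^ 2 - 1) ∨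
      ∃ p : ℕ, p.Prime ∧ p ≠ 2 ∧ (Fintype.card F = 3 ^ p ∨ Fintype.card F = 5 ^ p)) :
    ¬ Group.IsSolvable (Matrix.ProjectiveSpecialLinearGroup (Fin 2) F) ∧
      ¬ CA (Matrix.ProjectiveSpecialLinearGroup (Fin 2) F) ∧
      MC (Matrix.ProjectiveSpecialLinearGroup (Fin 2) F) := by
  obtain ⟨ho, h5, h16⟩ : Odd (Fintype.card F) ∧ 5 < Fintype.card F ∧
      ¬ 16 ∣ Fintype.card F ^ 2 - 1 := by
    rcases hq with ⟨h1, h2, h3⟩ | ⟨p, hp, h2, e | e⟩
    · exact ⟨h1.odd_of_ne_two (by omega), h2, h3⟩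
    · rw [e]; exact CV.pw (.inl rfl) hp h2
    · rw [e]; exact CV.pw (.inr rfl) hp h2
  have sub : ∀ k m : ℕ, k ^ m = Fintype.card F → m = 1 ∨ k ≤ 5 := by
    intro k m e
    have key : ∀ l p : ℕ, l.Prime → l ≤ 5 → p.Prime → k ^ m = l ^ p → m = 1 ∨ k ≤ 5 := by
      intro l p hl hl5 hp e'
      have m0 : m ≠ 0 := by rintro rfl; rw [pow_zero] at e; omega
      obtain ⟨j, -, rfl⟩ := (Nat.dvd_prime_pow hl).1 (e' ▸ dvd_pow_self k m0)
      rw [← pow_mul] at e'
      have := Nat.pow_right_injective hl.two_le e'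
      rcases (Nat.prime_mul_iff.1 (this ▸ hp)) with ⟨-, h⟩ | ⟨-, h⟩
      · exact .inl h
      · right; rw [h, pow_one]; exact hl5
    rcases hq with ⟨h1, -, -⟩ | ⟨p, hp, -, e' | e'⟩
    · exact .inl (Nat.Prime.eq_one_of_pow (e ▸ h1))
    · exact key 3 p Nat.prime_three (by omega) hp (e.trans e')
    · exact key 5 p Nat.prime_five (by omega) hp (e.trans e')
  have hn := nca ho h5
  have h2 := two_ne_iff.2 ho
  have g2 : Nat.gcd 2 (Fintype.card F - 1) = 2 :=
    Nat.gcd_eq_left (by obtain ⟨j, hj⟩ := ho; omega)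
  have n8 : ∀ H : Subgroup PSL(2, F), ¬ 8 ∣ Nat.card H := fun H h8 => h16 (by
    have h1 := H12.card_PSL2 (F := F) rfl
    rw [g2] at h1
    have h3 : 16 ∣ Fintype.card F * (Fintype.card F ^ 2 - 1) :=
      h1 ▸ Nat.mul_dvd_mul_left 2 (h8.trans H.card_subgroup_dvd_card)
    exact (Nat.Coprime.pow_left 4 (Nat.coprime_two_left.2 ho)).dvd_of_dvd_mul_left h3)
  refine ⟨fun hs => hn (CV.ca_of_comm fun a b => ?_), hn, fun H hH x hx k hk y hy z hz h1 e1 e2 => ?_⟩
  · have := Matrix.ProjectiveSpecialLinearGroup.rank_two_simple (F := F)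
      (by rw [Nat.card_eq_fintype_card]; omega)
    exact IsSimpleGroup.comm_iff_isSolvable.2 hs a b
  have x1 : x ≠ 1 := by rintro rfl; exact h1 (by simp)
  by_cases x2 : x * x = 1
  swap
  · exact congrArg Subtype.val ((cab x x1 (.inl x2)).1.1
      ⟨y, mem_centralizer_singleton_iff.2 e1.symm⟩ ⟨z, mem_centralizer_singleton_iff.2 e2.symm⟩)
  have viaCA : CA H → y * z = z * y := fun h => congrArg Subtype.val
    (h ⟨x, hx⟩ ⟨k, hk⟩ ⟨y, hy⟩ ⟨z, hz⟩ (fun e => h1 (congrArg Subtype.val e)) (Subtype.ext e1)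
      (Subtype.ext e2))
  have via : ∀ {G : Type} [Group G] (f : H →* G), Function.Injective f →
      (∀ a b c : H, f a * f a = 1 → f a ≠ 1 → f a * f b = f b * f a → f a * f c = f c * f a →
        f b * f c = f c * f b) → y * z = z * y := by
    intro G _ f hf h
    have := h ⟨x, hx⟩ ⟨y, hy⟩ ⟨z, hz⟩
      (by rw [← map_mul, ← map_one f]; exact congrArg f (Subtype.ext x2))
      ((map_ne_one_iff f hf).2 fun e => x1 (congrArg Subtype.val e))
      (by rw [← map_mul, ← map_mul]; exact congrArg f (Subtype.ext e1))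
      (by rw [← map_mul, ← map_mul]; exact congrArg f (Subtype.ext e2))
    rw [← map_mul, ← map_mul] at this
    exact congrArg Subtype.val (hf this)
  obtain ⟨p, hp, n, hpp, -⟩ := FiniteField.card' F
  have := Fact.mk hpp
  rcases S0799.result rfl p H with ⟨j, -, ⟨hc, -⟩ | ⟨⟨e⟩⟩⟩ | ⟨P, K, hK, ⟨e⟩⟩ | ⟨⟨e⟩⟩ | ⟨⟨e⟩⟩ |
    ⟨⟨e⟩⟩ | ⟨K, _, _, m, hm, ⟨⟨e⟩⟩ | ⟨⟨e⟩⟩⟩
  · exact viaCA (CV.ca_of_comm fun a b => hc.isMulCommutative.1.1 a b)
  · exact viaCA ((CV.ca_dih j).of_inj e.toMonoidHom e.injective)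
  · obtain ⟨ω, hω⟩ := CV.fixpt p P
    have f : ∀ a : H, Matrix.ProjectiveSpecialLinearGroup.toPGL (e a : PSL(2, F)) • ω = ω :=
      fun a => (H12.toPGL_smul_proj _ _).trans (hω _ (hK (e a).2))
    exact via ((Matrix.ProjectiveSpecialLinearGroup.toPGL.comp K.subtype).comp e.toMonoidHom)
      ((Matrix.ProjectiveSpecialLinearGroup.toPGL_injective.comp K.subtype_injective).comp
        e.injective) fun a b c => CV.borel h2 (f a) (f b) (f c)
  · exact via e.toMonoidHom e.injective fun a b c => CV.comm_of_sq CV.a4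
  · refine absurd ?_ (n8 H)
    rw [Nat.card_congr e.toEquiv, Nat.card_perm, Nat.card_fin]; decide
  · exact via e.toMonoidHom e.injective fun a b c => CV.comm_of_sq CV.a5
  · rcases sub _ _ hm with rfl | h
    · refine absurd (eq_top_of_card_eq _ ?_) hH
      rw [pow_one] at hm
      have c1 := H12.card_PSL2 (F := F) rfl
      have c2 := H12.card_PSL2 hm
      rw [g2] at c1 c2
      rw [Nat.card_congr e.toEquiv]
      omega
    · exact viaCA ((ca_iff.2 fun w hw => cab w (fun e => hw (e ▸ one_mem _))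
        (.inr (.inr h))).of_inj e.toMonoidHom e.injective)
  · refine absurd ?_ (n8 H)
    rw [Nat.card_congr e.toEquiv, H12.card_PGL2 rfl]
    have m0 : m ≠ 0 := by rintro rfl; rw [pow_zero] at hm; omega
    exact (CV.eight ((Nat.odd_pow_iff m0).1 (hm ▸ ho))).mul_left _

end Cfsg.Agent.CAm
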