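import Cfsg.Agent.CAm.A
import Cfsg.Agent.WA.Main
import Cfsg.Agent.S0483
import Cfsg.Agent.H19.Two
import Cfsg.Agent.GW.DStr

/-! Minimal non-CA-groups: identification of the simple quotient -/

set_option autoImplicit false

namespace Cfsg.Agent.CAm

open Subgroup
open scoped commutatorElement Pointwise

namespace PID

variable {G K : Type*} [Group G] [Group K] {π : G →* K}

theorem cen (ker : π.ker ≤ center G) {x y : G} (h : π x * π y = π y * π x) : x * y * x⁻¹ * y⁻¹ ∈ center G :=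
  ker (by rw [MonoidHom.mem_ker, map_mul, map_mul, map_mul, h, map_inv, map_inv]; group)

theorem pw (ker : π.ker ≤ center G) {x y : G} (h : π x * π y = π y * π x) {m : ℕ} (hm : π x ^ m = 1) :
    (x * y * x⁻¹ * y⁻¹) ^ m = 1 := by
  have c := mem_center_iff.1 (cen ker h)
  have e : ∀ k : ℕ, x ^ k * y = (x * y * x⁻¹ * y⁻¹) ^ k * y * x ^ k := fun k => by
    induction k with
    | zero => simp
    | succ k ih =>
      rw [pow_succ', mul_assoc, ih, pow_succ, ← mul_assoc, ← mul_assoc,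
        ((show Commute x _ from c x).pow_right k).eq]
      group
  have := e m
  rw [← mem_center_iff.1 (ker (show x ^ m ∈ π.ker by rw [MonoidHom.mem_ker, map_pow, hm])) y, mul_assoc] at this
  exact (right_eq_mul.1 this)

theorem lc (ker : π.ker ≤ center G) {x y : G} (h : π x * π y = π y * π x) {m n : ℕ} (hm : π x ^ m = 1)
    (hn : π y ^ n = 1) (c : m.Coprime n) : x * y = y * x := by
  have a := pw ker h.symm hn
  rw [show y * x * y⁻¹ * x⁻¹ = (x * y * x⁻¹ * y⁻¹)⁻¹ by group, inv_pow, inv_eq_one] at a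
  have := (pow_eq_one_iff_of_coprime c).1 ⟨pw ker h hm, a⟩
  rwa [mul_inv_eq_one, mul_inv_eq_iff_eq_mul] at this

theorem der (ker : π.ker ≤ center G) (sur : Function.Surjective π) (x : G) {E : Subgroup K} (hE : ⁅E, E⁆ = E)
    (hc : ∀ e ∈ E, π x * e = e * π x) {e : K} (he : e ∈ E) : ∃ y, π y = e ∧ x * y = y * x := by
  have h1 : ⁅E.comap π, E.comap π⁆ ≤ centralizer {x} := commutator_le.2 fun a ha b hb => by
    have ca := mem_center_iff.1 (cen ker (hc _ ha))
    have cb := mem_center_iff.1 (cen ker (hc _ hb))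
    rw [mem_centralizer_singleton_iff, eq_comm, ← mul_inv_eq_iff_eq_mul, commutatorElement_def]
    generalize hu : x * a * x⁻¹ * a⁻¹ = u at ca
    generalize hv : x * b * x⁻¹ * b⁻¹ = v at cb
    calc _ = (x * a * x⁻¹ * a⁻¹) * a * ((x * b * x⁻¹ * b⁻¹) * b) * a⁻¹ * (x * a * x⁻¹ * a⁻¹)⁻¹ * b⁻¹ *
          (x * b * x⁻¹ * b⁻¹)⁻¹ := by group
      _ = u * (a * (v * b) * a⁻¹) * u⁻¹ * b⁻¹ * v⁻¹ := by rw [hu, hv]; group
      _ = a * v * (b * a⁻¹ * b⁻¹) * v⁻¹ := by rw [← ca]; group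
      _ = _ := by rw [mul_assoc a, ← cb]; group
  rw [← hE, ← map_comap_eq_self_of_surjective sur E, ← map_commutator] at he
  obtain ⟨y, hy, rfl⟩ := he
  exact ⟨y, rfl, (mem_centralizer_singleton_iff.1 (h1 hy)).symm⟩

/-- the stabiliser of `{0, 1, 2}` -/
def S3 : Subgroup (alternatingGroup (Fin 7)) where
  carrier := {g | ∀ i : Fin 7, i < 3 ↔ g.1 i < 3}
  one_mem' _ := Iff.rfl
  mul_mem' ha hb i := (hb i).trans (ha _)
  inv_mem' {a} ha i := by simpa using (ha (a.1⁻¹ i)).symm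

/-- a product of two transpositions -/
def sw (a b c d : Fin 7) (h : a ≠ b := by decide) (h' : c ≠ d := by decide) : alternatingGroup (Fin 7) :=
  ⟨Equiv.swap a b * Equiv.swap c d, by simp [Equiv.Perm.mem_alternatingGroup, h, h']⟩

end PID

open PID

variable {G : Type} [Group G] [Finite G]

omit [Finite G] in
theorem noA7 (h : MC G) (π : G →* alternatingGroup (Fin 7)) (sur : Function.Surjective π)
    (ker : π.ker ≤ center G) : False := by
  obtain ⟨x, hx⟩ := sur (sw 0 1 1 2)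
  obtain ⟨b, hb⟩ := sur (sw 3 5 4 6)
  obtain ⟨s, hs⟩ := sur (sw 0 1 3 4)
  obtain ⟨r, hr⟩ := sur (sw 3 4 4 5)
  have hH : S3.comap π ≠ ⊤ := fun e => by
    obtain ⟨g, hg⟩ := sur (sw 0 3 1 2)
    have : π g ∈ S3 := (e ▸ mem_top g : g ∈ S3.comap π)
    rw [hg] at this
    exact absurd (this 0) (by decide)
  have ne : ∀ {a b : G}, π a * π b ≠ π b * π a → a * b ≠ b * a := fun f e => f (by rw [← map_mul, e, map_mul])
  have mx : x ∈ S3.comap π := by rw [mem_comap, hx]; intro i; revert i; decide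
  have mb : b ∈ S3.comap π := by rw [mem_comap, hb]; intro i; revert i; decide
  have ms : s ∈ S3.comap π := by rw [mem_comap, hs]; intro i; revert i; decide
  have mr : r ∈ S3.comap π := by rw [mem_comap, hr]; intro i; revert i; decide
  have mc := mul_mem (mul_mem ms mb) (inv_mem ms)
  have h1 : b * (s * b * s⁻¹) = s * b * s⁻¹ * b := h _ hH x mx s ms b mb _ mc (ne (by rw [hx, hs]; decide))
    (lc ker (m := 3) (n := 2) (by rw [hx, hb]; decide) (by rw [hx]; decide) (by rw [hb]; decide) (by norm_num))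
    (lc ker (m := 3) (n := 2) (by simp only [map_mul, map_inv, hx, hb, hs]; decide) (by rw [hx]; decide)
      (by simp only [map_mul, map_inv, hb, hs]; decide) (by norm_num))
  have h2 := mem_center_iff.1 (ker (show s * s ∈ π.ker by rw [MonoidHom.mem_ker, map_mul, hs]; decide)) b
  refine ne (a := b) (b := s) (by rw [hb, hs]; decide) (h _ hH _ (mul_mem mb mc) r mr b mb s ms
    (ne (by simp only [map_mul, map_inv, hb, hs, hr]; decide)) (by rw [mul_assoc b, ← h1]) ?_)
  calc _ = b * (s * s) * s⁻¹ * b := by group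
    _ = s * (s * b * s⁻¹ * b) := by rw [h2]; group
    _ = _ := by rw [h1]

theorem noJR (h : MC G) {K : Type} [Group K] [Finite K] [IsSimpleGroup K] (nc : ¬ IsMulCommutative K)
    (π : G →* K) (sur : Function.Surjective π) (ker : π.ker ≤ center G) (ab : WA.Ab2 (⊤ : Subgroup K))
    (j : WA.JRT K) : False := by
  haveI := Fact.mk Nat.prime_two
  obtain ⟨t, E, E₀, F, _, _, ht, -, ⟨-, -, d1, -, d2⟩, h1, h2, -, -, h3, ⟨e⟩⟩ := j
  haveI := GW.psl_simple h3
  haveI := e.isSimpleGroup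
  have nc0 : ¬ IsMulCommutative E₀ := fun c => GW.psl_ncomm h3 ⟨⟨fun a b => e.symm.injective (by
    rw [map_mul, map_mul, c.1.1])⟩⟩
  have tE : ∀ a ∈ E₀, t * a = a * t := fun a ha => d1 t (mem_zpowers t) a (h1 ha)
  obtain ⟨V⟩ : Nonempty (Sylow 2 E₀) := inferInstance
  obtain ⟨w, hw⟩ := exists_prime_orderOf_dvd_card' (G := (V : Subgroup E₀)) 2
    (V.dvd_card_of_dvd_card (H19.even_card_of_simple nc0))
  obtain ⟨g, g1, g2⟩ := H19.exists_conj_ne nc0 V ((orderOf_coe w).trans hw) w.2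
  have cV : ∀ a ∈ (V : Subgroup E₀).map E₀.subtype, a ∈ centralizer ({t} : Set K) := fun a ha =>
    mem_centralizer_singleton_iff.2 (tE a (map_subtype_le _ ha)).symm
  obtain ⟨T, hT⟩ := (IsPGroup.to_sup_of_normal_right' (V.2.map E₀.subtype)
    (IsPGroup.of_card (n := 1) ((Nat.card_zpowers t).trans ht)) fun a ha =>
      centralizer_le_normalizer _ (by
        rintro _ ⟨k, rfl⟩
        exact (Commute.zpow_right (mem_centralizer_singleton_iff.1 (cV a ha)) k).symm)).exists_le_sylow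
  have tT : t ∈ (T : Subgroup K) := hT (mem_sup_right (mem_zpowers t))
  have cT := ab T le_top T.2
  have cT' : IsMulCommutative (T : Subgroup K) := ⟨⟨fun a b => Subtype.ext (cT a a.2 b b.2)⟩⟩
  have TN : (T : Subgroup K) ≤ normalizer (E₀ : Set K) := fun a ha =>
    sup_le (zpowers_le.2 (centralizer_le_normalizer _ fun b hb => (tE b hb).symm)) h2
      (d2.symm ▸ mem_centralizer_singleton_iff.2 (cT a ha t tT) : a ∈ zpowers t ⊔ E)
  have wT : (w.1 : K) ∈ (T : Subgroup K) := hT (mem_sup_left ⟨_, w.2, rfl⟩)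
  have gT : (g : K) * w.1 * (g : K)⁻¹ ∈ (T : Subgroup K) := hT (mem_sup_left ⟨_, g1, rfl⟩)
  let T' := T.subtype (le_sup_left : (T : Subgroup K) ≤ (T : Subgroup K) ⊔ E₀)
  haveI : IsMulCommutative T' := ⟨⟨fun a b => Subtype.ext (Subtype.ext (cT _ a.2 _ b.2))⟩⟩
  obtain ⟨n, hn, f⟩ := T'.conj_eq_normalizer_conj_of_mem ⟨w.1, mem_sup_left wT⟩ ⟨g, mem_sup_right g.2⟩⁻¹ wT
    (by rw [inv_inv]; exact gT)
  have nN : (n : K) ∈ normalizer ((T : Subgroup K) : Set K) := mem_normalizer_fintype fun a ha =>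
    (mem_normalizer_iff.1 hn ⟨a, mem_sup_left ha⟩).1 ha
  obtain ⟨τ, hτ, y, hy, f2⟩ : (n : K) ∈ ((T : Subgroup K) : Set K) * (E₀ : Set K) :=
    (Set.ext_iff.1 (coe_mul_of_left_le_normalizer_right _ _ TN) _).1 n.2
  replace f2 : τ * y = n := f2
  have yN : y ∈ normalizer ((T : Subgroup K) : Set K) :=
    (mul_mem_cancel_left (le_normalizer hτ)).1 (by rw [f2]; exact nN)
  have yw : y * w.1 ≠ w.1 * y := fun c => g2 (Subtype.ext (by
    have := congrArg Subtype.val f
    simp only [inv_inv, coe_mul, coe_inv, ← f2] at this ⊢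
    rw [this]
    calc _ = y⁻¹ * τ⁻¹ * (w.1 * τ) * y := by group
      _ = y⁻¹ * (w.1 * y) := by rw [cT _ wT _ hτ]; group
      _ = _ := by rw [← c]; group))
  obtain ⟨m, hm, tm⟩ := H19.exists_norm_ne nc T cT' ht tT
  obtain ⟨x, rfl⟩ := sur t
  obtain ⟨m, rfl⟩ := sur m
  have pE : ⁅E₀, E₀⁆ = E₀ := by
    rw [← map_subtype_commutator, H19.commutator_eq_top_of_simple nc0, ← MonoidHom.range_eq_map, range_subtype]
  obtain ⟨y, rfl, c1⟩ := der ker sur x pE tE hy
  obtain ⟨z, hz, c2⟩ := der ker sur x pE tE w.1.2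
  refine yw ?_
  rw [← hz, ← map_mul, ← map_mul, h ((normalizer ((T : Subgroup K) : Set K)).comap π) (fun e => ?_) x
    (le_normalizer tT) m hm y yN z (mem_comap.2 (hz ▸ le_normalizer wT)) (fun c => tm (by
      rw [← map_mul, ← c, map_mul, mul_inv_cancel_right])) c1 c2]
  have : normalizer ((T : Subgroup K) : Set K) = ⊤ := eq_top_iff.2 fun k _ => by
    obtain ⟨k, rfl⟩ := sur k; exact (e ▸ mem_top k : k ∈ comap π _)
  rcases (normalizer_eq_top_iff.1 this).eq_bot_or_eq_top with c | c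
  · rw [c, mem_bot] at tT; simp [tT] at ht
  · exact nc ⟨⟨fun a b => cT a (c ▸ mem_top a) b (c ▸ mem_top b)⟩⟩

theorem ident (h : MC G) (q : IsQuasisimple G) (_nt : Nontrivial G) (td : ∀ T : Sylow 2 G,
    ¬ IsMulCommutative (T : Subgroup G) → (∀ a ∈ T, ∀ b ∈ T, a * b * a⁻¹ * b⁻¹ ∈ center G) ∨
      ∃ (S : Sylow 2 (G ⧸ center G)) (n : ℕ), 2 ≤ n ∧ Nonempty ((S : Subgroup (G ⧸ center G)) ≃* DihedralGroup n)) :
    ∃ (F : Type) (_ : Field F) (_ : Fintype F), 3 < Fintype.card F ∧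
      Nonempty (G ⧸ center G ≃* Matrix.ProjectiveSpecialLinearGroup (Fin 2) F) := by
  haveI := Fact.mk Nat.prime_two
  haveI := q.1
  haveI := q.2
  have nc : ¬ IsMulCommutative (G ⧸ center G) := fun _ => not_subsingleton (G ⧸ center G) inferInstance
  have sur := QuotientGroup.mk'_surjective (center G)
  have ker := (QuotientGroup.ker_mk' (center G)).le
  obtain ⟨T⟩ : Nonempty (Sylow 2 G) := inferInstance
  have : (∀ a ∈ T, ∀ b ∈ T, a * b * a⁻¹ * b⁻¹ ∈ center G) ∨ ∃ (S : Sylow 2 (G ⧸ center G)) (n : ℕ), 2 ≤ n ∧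
      Nonempty ((S : Subgroup (G ⧸ center G)) ≃* DihedralGroup n) := by
    by_cases c : IsMulCommutative (T : Subgroup G)
    · exact .inl fun a ha b hb => by
        rw [show a * b = b * a from congrArg Subtype.val (c.1.1 ⟨a, ha⟩ ⟨b, hb⟩)]; simp
    · exact td T c
  rcases this with c | ⟨S, n, hn, e⟩
  · have ab : WA.Ab2 (⊤ : Subgroup (G ⧸ center G)) := fun U _ hU a ha b hb => by
      obtain ⟨g, -, hg⟩ := (H11.isSylIn_top (T.mapSurjective sur)).exists_cj_le hU le_top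
      obtain ⟨x, hx, e1⟩ := H11.cj_le_iff.1 hg a ha
      obtain ⟨y, hy, e2⟩ := H11.cj_le_iff.1 hg b hb
      have := (QuotientGroup.eq_one_iff _).2 (c x hx y hy)
      simp only [QuotientGroup.mk_mul, QuotientGroup.mk_inv, mul_inv_eq_iff_eq_mul] at this
      rw [QuotientGroup.mk'_apply] at e1 e2
      rw [one_mul, e1, e2, conj_mul, conj_mul] at this
      simpa using this
    rcases WA.walter nc ab with ⟨F, _, _, ⟨n, h1, h2⟩, e⟩ | ⟨F, _, _, -, h1, e⟩ | j
    · exact ⟨F, _, _, h2 ▸ lt_of_lt_of_le (by norm_num) (Nat.pow_le_pow_right (by norm_num) h1), e⟩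
    · exact ⟨F, _, _, h1, e⟩
    · exact (noJR h nc _ sur ker ab j).elim
  · have o : oddCore (G ⧸ center G) = ⊥ := by
      refine (IsSimpleGroup.eq_bot_or_eq_top_of_normal _ inferInstance).resolve_right fun e => ?_
      haveI := FT.solvable_of_odd (G := G ⧸ center G) (by rw [← card_top, ← e]; exact GW.odd_oddCore)
      exact nc ⟨⟨IsSimpleGroup.comm_iff_isSolvable.2 this⟩⟩
    let i := ((QuotientGroup.quotientMulEquivOfEq o).trans QuotientGroup.quotientBot).symm
    rcases S0483.result S n hn e with ⟨F, _, _, -, h1, ⟨f⟩⟩ | ⟨⟨f⟩⟩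
    · exact ⟨F, _, _, h1, ⟨i.trans f⟩⟩
    · refine (noA7 h ((i.trans f).toMonoidHom.comp (QuotientGroup.mk' _)) ((i.trans f).surjective.comp sur)
        fun x hx => ker ((i.trans f).map_eq_one_iff.1 hx)).elim

end Cfsg.Agent.CAm
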