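import Cfsg.Agent.CAm.OUT1
import Cfsg.Agent.H12.Root2
import Cfsg.Agent.H12.Lin
import Cfsg.Agent.S0813
import Cfsg.Agent.S2086

set_option autoImplicit false

namespace Cfsg.Agent.CAm

open Subgroup MulAction
open scoped Pointwise MatrixGroups

namespace OUT

section
variable {A B : Type*} [Group A] [Group B] [Finite A] {p : ℕ} [hp : Fact p.Prime]

theorem inj_on {f : A →* B} (hk : ¬ p ∣ Nat.card f.ker) (P : Sylow p A) :
    Function.Injective (f.subgroupMap (P : Subgroup A)) := by
  rw [injective_iff_map_eq_one]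
  intro a ha
  exact Subtype.ext (p_triv P.2 hk a.2 (congrArg Subtype.val ha))

theorem card_map {f : A →* B} (hk : ¬ p ∣ Nat.card f.ker) (P : Sylow p A) :
    Nat.card ((P : Subgroup A).map f) = Nat.card (P : Subgroup A) :=
  (Nat.card_congr (Equiv.ofBijective _ ⟨inj_on hk P, f.subgroupMap_surjective _⟩)).symm

theorem syl_inj {f : A →* B} (hf : Function.Surjective f) (hz : f.ker ≤ center A) :
    Function.Injective (Sylow.mapSurjective hf : Sylow p A → Sylow p B) := by
  intro P Q e
  have e1 : (P : Subgroup A).map f = (Q : Subgroup A).map f := congrArg Sylow.toSubgroup e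
  have e2 := congrArg (comap f) e1
  rw [comap_map_eq, comap_map_eq] at e2
  refine eq_of_norm (le_sup_left.trans (e2.le.trans (sup_le le_normalizer
    (hz.trans (center_le_normalizer _)))))

/-- automorphisms modulo the centre -/
def autQ (N : Type*) [Group N] : MulAut N →* MulAut (N ⧸ center N) :=
  MonoidHom.mk' (fun a => QuotientGroup.congr (center N) (center N) a
    (characteristic_iff_map_eq.1 inferInstance a)) fun a b =>
      MulEquiv.ext fun x => QuotientGroup.induction_on x fun _ => rfl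

theorem autQ_inj {N : Type*} [Group N] (hp : Group.IsPerfect N) : Function.Injective (autQ N) := by
  rw [injective_iff_map_eq_one]
  intro a ha
  refine aut_triv hp a fun y => ?_
  have : ((a y : N) : N ⧸ center N) = (y : N ⧸ center N) := DFunLike.congr_fun ha (y : N ⧸ center N)
  rw [← div_eq_mul_inv]
  exact QuotientGroup.eq_iff_div_mem.1 this

end

variable {F : Type} [Field F] [Fintype F]

theorem nd {p : ℕ} [hp : Fact p.Prime] [CharP F p] : ¬ p ∣ Nat.gcd 2 (Fintype.card F - 1) :=
  fun h => H12.not_char_dvd_pow_sub_one (F := F) p one_ne_zero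
    (by rw [pow_one]; exact h.trans (Nat.gcd_dvd_right _ _))

theorem sy {N : Type} [Group N] [Finite N] (q : IsQuasisimple N) (ca : CA N)
    (e : (N ⧸ center N) ≃* PSL(2, F)) (h3 : 3 < Fintype.card F) (h4 : Fintype.card F ≠ 4)
    (h9 : Fintype.card F ≠ 9) (p : ℕ) [hp : Fact p.Prime] [CharP F p] :
    Sy N p (Fintype.card F) := by
  let π : N →* PSL(2, F) := e.toMonoidHom.comp (QuotientGroup.mk' _)
  have hπ : Function.Surjective π := e.surjective.comp (QuotientGroup.mk'_surjective _)
  have hk : π.ker = center N := by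
    ext x
    simp [π, MonoidHom.mem_ker]
  have hz : ¬ p ∣ Nat.card π.ker := by
    have hm := S2086.result (F := F) rfl 2 le_rfl (fun _ => h3) (by simp [h4, h9])
    obtain ⟨σ, hσ⟩ := hm.2 N π ⟨hπ, hk.le, by rw [q.1.commutator_eq_top]; exact le_top⟩
    have := (card_dvd_of_surjective σ hσ).trans (Nat.card_zmod _).dvd
    exact fun h => nd (F := F) (h.trans this)
  let μ : SL(2, F) →* PSL(2, F) := QuotientGroup.mk' _
  have hμ : Function.Surjective μ := QuotientGroup.mk'_surjective _
  have hz' : ¬ p ∣ Nat.card μ.ker := by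
    rw [QuotientGroup.ker_mk', H12.card_center_SL, Fintype.card_fin, Nat.card_eq_fintype_card]
    exact nd
  have key : ∀ P : Sylow p N, ∃ (x : H12.P1 F),
      (P : Subgroup N).map π = (H12.rootSylow p x : Subgroup SL(2, F)).map μ := fun P => by
    obtain ⟨R, hR⟩ := Sylow.mapSurjective_surjective hμ p (P.mapSurjective hπ)
    obtain ⟨x, rfl⟩ := (H12.rootSylow_bijective (F := F) p).2 R
    exact ⟨x, (congrArg Sylow.toSubgroup hR).symm⟩
  refine ⟨q, ca, fun P => ?_, fun P a ha b hb => ?_, hk ▸ hz, ?_, by omega⟩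
  · obtain ⟨x, hx⟩ := key P
    rw [← card_map hz P, hx, card_map hz', H12.coe_rootSylow, H12.card_rootSL,
      Nat.card_eq_fintype_card]
  · obtain ⟨x, hx⟩ := key P
    obtain ⟨a', ha', ea⟩ : π a ∈ (H12.rootSylow p x : Subgroup SL(2, F)).map μ := hx ▸ ⟨a, ha, rfl⟩
    obtain ⟨b', hb', eb⟩ : π b ∈ (H12.rootSylow p x : Subgroup SL(2, F)).map μ := hx ▸ ⟨b, hb, rfl⟩
    obtain ⟨φ⟩ := H12.nonempty_rootSL_equiv x
    have c1 : a' * b' = b' * a' := congrArg Subtype.val
      (φ.injective (by rw [map_mul, map_mul, mul_comm]) :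
        (⟨a', ha'⟩ * ⟨b', hb'⟩ : H12.rootSL x) = ⟨b', hb'⟩ * ⟨a', ha'⟩)
    have c2 : π (a * b) = π (b * a) := by
      rw [map_mul, map_mul, ← ea, ← eb, ← map_mul, c1, map_mul]
    exact congrArg Subtype.val (@inj_on _ _ _ _ _ _ _ _ hz P ⟨a * b, mul_mem ha hb⟩
      ⟨b * a, mul_mem hb ha⟩ (Subtype.ext c2))
  · have : Finite PSL(2, F) := Finite.of_surjective π hπ
    refine (Nat.card_le_card_of_injective _ (syl_inj hπ hk.le)).trans ?_
    rw [← Nat.card_eq_fintype_card, ← H12.card_sylow_SL2 p]
    exact Nat.card_le_card_of_surjective _ (Sylow.mapSurjective_surjective hμ p)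

end OUT

open OUT in
/-- no outer automorphism of odd prime order -/
theorem out {G : Type} [Group G] [Finite G] (h : MC G) {F : Type} [Field F] [Fintype F]
    (N : Subgroup G) [N.Normal] (q : IsQuasisimple N)
    (hC : centralizer (N : Set G) ≤ center G)
    (e : (N ⧸ center N) ≃* Matrix.ProjectiveSpecialLinearGroup (Fin 2) F)
    (h3 : 3 < Fintype.card F) {x : G} {r : ℕ} (hr : r.Prime) (h2 : r ≠ 2)
    (hx : x ^ r ∈ center G) : x ∈ N ⊔ center G := by
  by_contra hn
  set M := N ⊔ center G with hM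
  have hN : N ≠ ⊤ := fun e => hn (mem_sup_left (e ▸ mem_top x))
  haveI := Fact.mk hr
  have o : orderOf (x : G ⧸ M) = r := orderOf_eq_prime
    (by rw [← QuotientGroup.mk_pow, QuotientGroup.eq_one_iff]; exact mem_sup_right hx)
    (by rw [Ne, QuotientGroup.eq_one_iff]; exact hn)
  have rM : r ∣ M.index := o ▸ orderOf_dvd_natCard (x : G ⧸ M)
  have hZ : (center G).subgroupOf N = center N := by
    ext y
    rw [mem_subgroupOf]
    exact ⟨fun hy => mem_center_iff.2 fun g => Subtype.ext (mem_center_iff.1 hy g),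
      fun hy => hC fun g hg => congrArg Subtype.val (mem_center_iff.1 hy ⟨g, hg⟩)⟩
  set L := Nat.card (Matrix.ProjectiveSpecialLinearGroup (Fin 2) F) with hL
  have iZ : (center G).index = L * M.index := by
    rw [← relIndex_mul_index (le_sup_right : center G ≤ M), hM, relIndex_sup_right, relIndex, hZ,
      index, Nat.card_congr e.toEquiv]
  have : Finite (Matrix.ProjectiveSpecialLinearGroup (Fin 2) F) := Finite.of_equiv _ e.toEquiv
  have L0 : 0 < L := Nat.card_pos
  obtain ⟨p, hpc, f, hp, hF⟩ := FiniteField.card' F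
  haveI := Fact.mk hp
  have c1 := H12.card_PSL2 (F := F) rfl
  have d2 : Nat.gcd 2 (Fintype.card F - 1) ∣ 2 := Nat.gcd_dvd_left _ _
  -- the index divides `f * d`
  have hA : M.index ∣ f * Nat.gcd 2 (Fintype.card F - 1) := by
    have a1 := S0813.result (F := F) p f f.2 hF 2 le_rfl (fun _ => hF ▸ h3)
    rw [if_pos rfl, one_mul, H12.card_PGL2 rfl, ← c1, ← hL] at a1
    have k : (MulAut.conjNormal : G →* MulAut N).ker = center G := by
      refine le_antisymm (fun g hg => hC fun y hy => ?_) fun g hg => MulEquiv.ext fun y =>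
        Subtype.ext ?_
      · have := congrArg Subtype.val (DFunLike.congr_fun (MonoidHom.mem_ker.1 hg) ⟨y, hy⟩)
        rw [MulAut.conjNormal_apply] at this
        exact (mul_inv_eq_iff_eq_mul.1 this).symm
      · rw [MulAut.conjNormal_apply, ← mem_center_iff.1 hg, mul_inv_cancel_right]; rfl
    have a2 : (center G).index ∣ Nat.card (MulAut N) := by
      rw [← k, index_ker]; exact card_subgroup_dvd_card _
    have a3 := card_dvd_of_injective _ (autQ_inj q.1)
    rw [Nat.card_congr (MulAut.congr e).toEquiv, a1] at a3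
    have a4 := a2.trans a3
    rw [iZ, ← mul_assoc, mul_comm _ L] at a4
    exact Nat.dvd_of_mul_dvd_mul_left L0 a4
  have rf : r ∣ (f : ℕ) := by
    rcases (hr.dvd_mul).1 (rM.trans hA) with h' | h'
    · exact h'
    · exact absurd ((Nat.prime_dvd_prime_iff_eq hr Nat.prime_two).1 (h'.trans d2)) h2
  have r3 : 3 ≤ r := by have := hr.two_le; omega
  have f3 : 3 ≤ (f : ℕ) := r3.trans (Nat.le_of_dvd f.2 rf)
  have hsq : ∀ s : ℕ, s.Prime → Fintype.card F ≠ s ^ 2 := fun s hs e' => by
    rw [hF] at e'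
    have e1 : p = s := (Nat.prime_dvd_prime_iff_eq hp hs).1
      (hp.dvd_of_dvd_pow (e' ▸ dvd_pow_self p f.2.ne'))
    rw [e1] at e'
    have := Nat.pow_right_injective hs.two_le e'
    omega
  have hs := sy q (h.ca hN) e h3 (hsq 2 Nat.prime_two) (hsq 3 Nat.prime_three) p
  have hc := core h N hs hC
  have e5 : (Fintype.card F - 1) * (Fintype.card F + 1) = Fintype.card F ^ 2 - 1 := by
    rw [mul_comm, ← Nat.sq_sub_sq, one_pow]
  rw [e5, ← c1, iZ, ← hL, mul_comm _ L] at hc
  have h6 := Nat.le_of_mul_le_mul_left hc L0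
  have h7 := Nat.le_of_dvd two_pos d2
  have h8 := Nat.le_of_dvd (Nat.pos_of_ne_zero index_ne_zero_of_finite) rM
  omega

end Cfsg.Agent.CAm
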