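import Cfsg.Agent.CAm.A
import Cfsg.Agent.GW.Dih
import Cfsg.Agent.H1.Quaternion

/-! Solvable normal subgroups of a nonsolvable minimal non-CA-group are central. -/

set_option autoImplicit false

namespace Cfsg.Agent.CAm

open Subgroup

namespace R3

variable {G : Type} [Group G]

theorem cop {e q c : G} {k n : ℕ} (he : e ^ 2 ^ k * q = q * e ^ 2 ^ k) (hc : c ^ n = 1) (hn : Odd n)
    (h1 : e * q * e⁻¹ = q * c) (h2 : e * c = c * e) : e * q = q * e := by
  have H : ∀ j : ℕ, e ^ j * q * (e ^ j)⁻¹ = q * c ^ j := fun j => by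
    induction j with
    | zero => simp
    | succ j ih =>
      have : e * c ^ j * e⁻¹ = c ^ j := by
        rw [(show Commute e c from h2).pow_right j]; group
      calc e ^ (j + 1) * q * (e ^ (j + 1))⁻¹ = e * (e ^ j * q * (e ^ j)⁻¹) * e⁻¹ := by group
        _ = (e * q * e⁻¹) * (e * c ^ j * e⁻¹) := by rw [ih]; group
        _ = q * c ^ (j + 1) := by rw [h1, this]; group
  have h3 : c ^ 2 ^ k = 1 := by
    have := H (2 ^ k)
    rw [he, mul_inv_cancel_right] at this
    exact (mul_eq_left.1 this.symm)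
  have h4 : c = 1 := orderOf_eq_one_iff.1 (Nat.eq_one_of_dvd_coprimes
    ((Nat.coprime_two_right.2 hn).pow_right k) (orderOf_dvd_of_pow_eq_one hc)
    (orderOf_dvd_of_pow_eq_one h3))
  rw [h4, mul_one] at h1
  exact mul_inv_eq_iff_eq_mul.1 h1

theorem half {K : Subgroup G} {s : G} (k : ℕ) (h : s ^ 2 ^ k ∈ K) (hs : s ∉ K) :
    ∃ n : ℕ, s ^ n ∉ K ∧ s ^ n * s ^ n ∈ K := by
  induction k with
  | zero => exact absurd (by simpa using h) hs
  | succ k ih =>
    by_cases h' : s ^ 2 ^ k ∈ K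
    · exact ih h'
    · exact ⟨2 ^ k, h', by rwa [← pow_add, ← mul_two, ← pow_succ]⟩

section
variable (h : MC G) {Q T : Subgroup G} [hN : Q.Normal] (ho : ∀ q ∈ Q, ∃ n, Odd n ∧ q ^ n = 1)
  (hz : ∀ a ∈ Q, ∀ b ∈ Q, a * b * a⁻¹ * b⁻¹ ∈ center G) (hT : IsPGroup 2 T) (hH : Q ⊔ T ≠ ⊤)
include h ho hz hT hH

theorem star {e y : G} (he : e ∈ T) (hK : e ∉ centralizer (Q : Set G)) (hy : y ∈ Q)
    (c : e * y = y * e) {x : G} (hx : x ∈ Q ⊔ T) : y * x = x * y := by
  by_contra hne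
  refine hK fun q hq => ?_
  obtain ⟨k, hk⟩ := hT ⟨e, he⟩
  have hk' : e ^ 2 ^ k = 1 := congrArg Subtype.val hk
  have cq : q⁻¹ * (e * q * e⁻¹) ∈ Q := mul_mem (inv_mem hq) (hN.conj_mem q hq e)
  obtain ⟨n, hn, hc⟩ := ho _ cq
  refine (cop (k := k) (by simp [hk']) hc hn (by group) ?_).symm
  refine h _ hH y (mem_sup_left hy) x hx e (mem_sup_right he) _ (mem_sup_left cq) hne c.symm ?_
  have a := mem_center_iff.1 (hz q hq y hy) e
  have b : e * q * e⁻¹ * y * (e * q * e⁻¹)⁻¹ = q * y * q⁻¹ :=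
    calc e * q * e⁻¹ * y * (e * q * e⁻¹)⁻¹ = e * q * e⁻¹ * (y * e) * q⁻¹ * e⁻¹ := by group
      _ = e * (q * y * q⁻¹ * y⁻¹) * (y * e⁻¹) := by rw [← c]; group
      _ = q * y * q⁻¹ * y⁻¹ * (e * y) * e⁻¹ := by rw [a]; group
      _ = _ := by rw [c]; group
  calc y * (q⁻¹ * (e * q * e⁻¹)) = q⁻¹ * (q * y * q⁻¹) * (e * q * e⁻¹) := by group
    _ = q⁻¹ * (e * q * e⁻¹) * y := by rw [← b]; group

theorem inv {e q : G} (he : e ∈ T) (hK : e ∉ centralizer (Q : Set G))
    (h2 : e * e ∈ centralizer (Q : Set G)) (hq : q ∈ Q) :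
    ∃ y ∈ Q, e * q * e⁻¹ = q⁻¹ * y ∧ ∀ x ∈ Q ⊔ T, y * x = x * y := by
  have q' : e * q * e⁻¹ ∈ Q := hN.conj_mem q hq e
  have cz := hz _ (inv_mem q') _ (inv_mem hq)
  have cq : (e * q * e⁻¹)⁻¹ * q⁻¹ * (e * q * e⁻¹)⁻¹⁻¹ * q⁻¹⁻¹ ∈ Q :=
    mul_mem (mul_mem (mul_mem (inv_mem q') (inv_mem hq)) (inv_mem (inv_mem q'))) (inv_mem (inv_mem hq))
  obtain ⟨n, hn, hc⟩ := ho _ cq
  refine ⟨q * (e * q * e⁻¹), mul_mem hq q', by group, fun x hx =>
    star h ho hz hT hH he hK (mul_mem hq q') ?_ hx⟩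
  refine cop (k := 1) (by simpa [pow_two] using (h2 _ (mul_mem hq q')).symm) hc hn ?_
    (mem_center_iff.1 cz e)
  calc e * (q * (e * q * e⁻¹)) * e⁻¹ = e * q * e⁻¹ * ((e * e) * q) * e⁻¹ * e⁻¹ := by group
    _ = _ := by rw [← h2 q hq]; group

theorem uniq {e f : G} (he : e ∈ T) (hK : e ∉ centralizer (Q : Set G))
    (h2 : e * e ∈ centralizer (Q : Set G)) (hf : f ∈ T) (fK : f ∉ centralizer (Q : Set G))
    (f2 : f * f ∈ centralizer (Q : Set G)) : e * f ∈ centralizer (Q : Set G) := fun q hq => by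
  obtain ⟨y, hy, e1, c1⟩ := inv h ho hz hT hH he hK h2 hq
  obtain ⟨w, hw, e2, c2⟩ := inv h ho hz hT hH hf fK f2 hq
  obtain ⟨k, hk⟩ := hT ⟨e * f, mul_mem he hf⟩
  have hk' : (e * f) ^ 2 ^ k = 1 := congrArg Subtype.val hk
  obtain ⟨n, hn, hc⟩ := ho _ (mul_mem (inv_mem hy) hw)
  have ef : e * f ∈ Q ⊔ T := mem_sup_right (mul_mem he hf)
  refine (cop (k := k) (by simp [hk']) hc hn ?_ ?_).symm
  · have a := c2 e (mem_sup_right he)
    have b := c1 q (mem_sup_left hq)
    calc e * f * q * (e * f)⁻¹ = e * (f * q * f⁻¹) * e⁻¹ := by group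
      _ = (e * q * e⁻¹)⁻¹ * (e * w) * e⁻¹ := by rw [e2]; group
      _ = y⁻¹ * (q * y) * y⁻¹ * w := by rw [e1, ← a]; group
      _ = _ := by rw [← b]; group
  · exact ((show Commute y (e * f) from c1 _ ef).inv_left.mul_left (c2 _ ef)).symm

theorem comm (h0 : ∀ c ∈ T, c ∈ centralizer (Q : Set G) → ∀ s ∈ T, c * s = s * c) :
    ∀ a ∈ T, ∀ b ∈ T, a * b = b * a := fun a ha b hb => by
  by_contra hne
  have hf : ∀ s ∈ T, s ∉ centralizer (Q : Set G) → ∃ n : ℕ, s ^ n ∉ centralizer (Q : Set G) ∧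
      s ^ n * s ^ n ∈ centralizer (Q : Set G) := fun s hs hK => by
    obtain ⟨k, hk⟩ := hT ⟨s, hs⟩
    have hk' : s ^ 2 ^ k = 1 := congrArg Subtype.val hk
    exact half k (hk' ▸ one_mem _) hK
  obtain ⟨n, t1, t2⟩ := hf a ha fun e => hne (h0 a ha e b hb)
  have tT := pow_mem ha n
  generalize a ^ n = t at t1 t2 tT
  have tz : ∀ s ∈ T, t * s = s * t := fun s hs => by
    by_cases hK : s ∈ centralizer (Q : Set G)
    · exact (h0 s hs hK t tT).symm
    · obtain ⟨m, s1, s2⟩ := hf s hs hK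
      have := h0 _ (mul_mem tT (pow_mem hs m)) (uniq h ho hz hT hH tT t1 t2 (pow_mem hs m) s1 s2) s hs
      rw [mul_assoc, ← pow_succ, pow_succ', ← mul_assoc, ← mul_assoc] at this
      exact mul_right_cancel this
  refine t1 fun q hq => by_contra fun hc => hne ?_
  exact h _ hH t (mem_sup_right tT) q (mem_sup_left hq) a (mem_sup_right ha) b (mem_sup_right hb)
    (fun e => hc e.symm) (tz a ha) (tz b hb)

end

theorem solv [Finite G] (K : Subgroup G) [K.Normal] (T : Sylow 2 G)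
    (hc : ∀ a ∈ (T : Subgroup G), ∀ b ∈ (T : Subgroup G), a * b = b * a)
    (hu : ∀ e ∈ (T : Subgroup G), ∀ f ∈ (T : Subgroup G), e ∉ K → e * e ∈ K → f ∉ K → f * f ∈ K →
      e * f ∈ K) : Group.IsSolvable (G ⧸ K) := by
  let S := T.mapSurjective (QuotientGroup.mk'_surjective K)
  have : IsMulCommutative (S : Subgroup (G ⧸ K)) := ⟨⟨by
    rintro ⟨_, a, ha, rfl⟩ ⟨_, b, hb, rfl⟩
    exact Subtype.ext (by simp only [coe_mul, ← map_mul, hc a ha b hb])⟩⟩
  have cy : IsCyclic (S : Subgroup (G ⧸ K)) := H1.isCyclic_of_unique_order_p S.isPGroup' (by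
    rintro ⟨_, a, ha, rfl⟩ ⟨_, b, hb, rfl⟩ h1 h2
    by_cases hb' : b ∈ K
    · rw [show (⟨_, b, hb, rfl⟩ : (S : Subgroup (G ⧸ K))) = 1 from
        Subtype.ext ((QuotientGroup.eq_one_iff b).2 hb')]
      exact one_mem _
    have a1 : a ∉ K := fun e => by
      rw [show (⟨_, a, ha, rfl⟩ : (S : Subgroup (G ⧸ K))) = 1 from
        Subtype.ext ((QuotientGroup.eq_one_iff a).2 e)] at h1
      simp at h1
    have a2 := pow_orderOf_eq_one (⟨_, a, ha, rfl⟩ : (S : Subgroup (G ⧸ K)))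
    rw [h1] at a2
    rw [pow_two] at a2 h2
    have := hu a ha b hb a1 ((QuotientGroup.eq_one_iff _).1 (congrArg Subtype.val a2)) hb'
      ((QuotientGroup.eq_one_iff _).1 (congrArg Subtype.val h2))
    rw [← inv_mem_iff]
    convert mem_zpowers _
    exact (eq_inv_of_mul_eq_one_left (Subtype.ext ((QuotientGroup.eq_one_iff _).2 this))).symm)
  have := (GW.nil2_of_cyclic (H11.isSylIn_top S) cy).solvable
  exact Group.isSolvable_of_surjective (f := (⊤ : Subgroup (G ⧸ K)).subtype)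
    fun x => ⟨⟨x, mem_top x⟩, rfl⟩

theorem pg [Finite G] {Q : Subgroup G} [Q.Normal] (hs : Group.IsSolvable Q) (hc : ¬ Q ≤ center G)
    (hm : ∀ P : Subgroup G, P.Normal → P < Q → P ≤ center G) :
    (∀ a ∈ Q, ∀ b ∈ Q, a * b * a⁻¹ * b⁻¹ ∈ center G) ∧ ∃ p : ℕ, p.Prime ∧ IsPGroup p Q := by
  have lt : ⁅Q, Q⁆ < Q := by
    have : Nontrivial Q := (nontrivial_iff_ne_bot Q).2 (by rintro rfl; exact hc bot_le)
    rw [← Q.range_subtype, MonoidHom.range_eq_map, ← map_commutator, map_subtype_lt_map_subtype]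
    exact Group.IsSolvable.commutator_lt_top_of_nontrivial Q
  have hz : ∀ a ∈ Q, ∀ b ∈ Q, a * b * a⁻¹ * b⁻¹ ∈ center G := fun a ha b hb =>
    hm ⁅Q, Q⁆ inferInstance lt (commutator_mem_commutator ha hb)
  refine ⟨hz, ?_⟩
  have nl : Group.IsNilpotent Q := by
    refine Subgroup.isNilpotent_of_ker_le_center (Abelianization.of (G := Q)) ?_
    rw [Abelianization.ker_of]
    exact commutator_le.2 fun a _ b _ => mem_center_iff.2 fun g =>
      Subtype.ext (mem_center_iff.1 (hz a a.2 b b.2) g)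
  have hi : ((center G).subgroupOf Q).index ≠ 1 := fun e =>
    hc (subgroupOf_eq_top.1 (index_eq_one.1 e))
  obtain ⟨p, pp, hp⟩ := Nat.exists_prime_and_dvd hi
  have := Fact.mk pp
  obtain ⟨P⟩ : Nonempty (Sylow p Q) := inferInstance
  have : (P : Subgroup Q).Normal := inferInstance
  have : (P : Subgroup Q).Characteristic := P.characteristic_of_normal this
  refine ⟨p, pp, ?_⟩
  have e : (P : Subgroup Q).map Q.subtype = Q := by
    by_contra e
    have := hm _ inferInstance (lt_of_le_of_ne (map_subtype_le _) e)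
    exact P.not_dvd_index (hp.trans (index_dvd_of_le fun x hx => this ⟨x, hx, rfl⟩))
  exact e ▸ P.isPGroup'.map _

theorem nsq [Finite G] (ns : ¬ Group.IsSolvable G) {Q : Subgroup G} [Q.Normal]
    (cenL : ∀ L : Subgroup G, L.Normal → ⁅L, L⁆ = L → L ≠ ⊥ → centralizer (L : Set G) ≤ center G)
    (hc : ¬ Q ≤ center G) : ¬ Group.IsSolvable (G ⧸ centralizer (Q : Set G)) := fun hs => by
  obtain ⟨n, hn⟩ : ∃ n, ∀ m, Nat.card (derivedSeries G n) ≤ Nat.card (derivedSeries G m) :=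
    ⟨_, fun m => Function.argmin_le (fun n => Nat.card (derivedSeries G n)) m⟩
  have st : ∀ m, derivedSeries G (n + m) = derivedSeries G n := fun m =>
    eq_of_le_of_card_ge (derivedSeries_antitone G (Nat.le_add_right n m)) (hn _)
  obtain ⟨m, hm⟩ := hs
  have le : derivedSeries G m ≤ centralizer (Q : Set G) := by
    rw [← map_derivedSeries_eq (QuotientGroup.mk'_surjective _), Subgroup.map_eq_bot_iff,
      QuotientGroup.ker_mk'] at hm
    exact hm
  refine hc ((le_centralizer_iff.1 ?_).trans (cenL (derivedSeries G n) inferInstance (st 1)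
    fun e => ns ⟨n, e⟩))
  exact (st m).ge.trans ((derivedSeries_antitone G (Nat.le_add_left m n)).trans le)

theorem rad0 [Finite G] (h : MC G) (ns : ¬ Group.IsSolvable G)
    (r2 : ∀ Q : Subgroup G, Q.Normal → IsPGroup 2 Q → Q ≤ center G)
    (cenL : ∀ L : Subgroup G, L.Normal → ⁅L, L⁆ = L → L ≠ ⊥ → centralizer (L : Set G) ≤ center G) :
    Rad G := by
  intro Q
  induction Q using WellFoundedLT.induction with | _ Q ih => ?_
  intro hN hs
  by_contra hc
  obtain ⟨hz, p, pp, hp⟩ := pg hs hc fun P hP lt =>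
    ih P lt hP (Group.isSolvable_of_isSolvable_injective (f := inclusion lt.le) (inclusion_injective _))
  have p2 : p ≠ 2 := fun e => hc (r2 Q hN (e ▸ hp))
  have ho : ∀ q ∈ Q, ∃ n, Odd n ∧ q ^ n = 1 := fun q hq => by
    obtain ⟨k, hk⟩ := hp ⟨q, hq⟩
    exact ⟨p ^ k, (pp.odd_of_ne_two p2).pow, congrArg Subtype.val hk⟩
  have nq := nsq ns cenL hc
  obtain ⟨T⟩ : Nonempty (Sylow 2 G) := inferInstance
  have pr : ∀ X : Subgroup G, Group.IsSolvable X → centralizer (Q : Set G) ⊔ X ≠ ⊤ := fun X hX e => by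
    refine nq (Group.isSolvable_of_surjective
      (f := (QuotientGroup.mk' (centralizer (Q : Set G))).comp X.subtype) fun x => ?_)
    obtain ⟨g, rfl⟩ := QuotientGroup.mk'_surjective _ x
    obtain ⟨k, hk, y, hy, rfl⟩ := mem_sup_of_normal_left.1 (e ▸ mem_top g)
    refine ⟨⟨y, hy⟩, ?_⟩
    simp [(QuotientGroup.eq_one_iff k).2 hk]
  have hH : Q ⊔ (T : Subgroup G) ≠ ⊤ := fun e => pr (Q ⊔ (T : Subgroup G)) (by
    rw [sup_comm]
    exact H10.isSolvable_sup (le_normalizer_of_normal) (H10.isSolvable_of_isPGroup T.isPGroup') hs)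
    (by rw [e, sup_top_eq])
  have h0 : ∀ c ∈ (T : Subgroup G), c ∈ centralizer (Q : Set G) → ∀ s ∈ (T : Subgroup G),
      c * s = s * c := fun c hc' hK s hs' => by
    by_cases ab : ∀ a ∈ Q, ∀ b ∈ Q, a * b = b * a
    · obtain ⟨a, ha, hna⟩ := SetLike.not_le_iff_exists.1 hc
      obtain ⟨g, hg⟩ := not_forall.1 (mt mem_center_iff.2 hna)
      have kc : ∀ x ∈ centralizer (Q : Set G), ∀ y ∈ centralizer (Q : Set G), x * y = y * x :=
        fun x hx y hy => h _ (pr (zpowers g) inferInstance) a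
          (mem_sup_left fun b hb => ab b hb a ha) g (mem_sup_right (mem_zpowers g)) x
          (mem_sup_left hx) y (mem_sup_left hy) (fun e => hg e.symm) (hx a ha) (hy a ha)
      let O : Subgroup G :=
        { carrier := {x | x ∈ centralizer (Q : Set G) ∧ ∃ k, x ^ 2 ^ k = 1}
          one_mem' := ⟨one_mem _, 0, by simp⟩
          inv_mem' := fun ⟨a, k, b⟩ => ⟨inv_mem a, k, by rw [inv_pow, b, inv_one]⟩
          mul_mem' := fun {x y} ⟨a, k, b⟩ ⟨a', k', b'⟩ => ⟨mul_mem a a', k + k', by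
            rw [(show Commute x y from kc x a y a').mul_pow, pow_add, pow_mul, b, mul_comm,
              pow_mul y, b']; simp⟩ }
      have oN : O.Normal := ⟨fun x ⟨a, k, b⟩ g => ⟨Normal.conj_mem inferInstance x a g, k, by
        rw [conj_pow, b]; simp⟩⟩
      obtain ⟨k, hk⟩ := T.isPGroup' ⟨c, hc'⟩
      exact (mem_center_iff.1 (r2 O oN (fun ⟨x, _, k, b⟩ => ⟨k, Subtype.ext b⟩)
        ⟨hK, k, congrArg Subtype.val hk⟩) s).symm
    · by_contra hne
      exact ab fun a ha b hb => h _ hH c (mem_sup_right hc') s (mem_sup_right hs') a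
        (mem_sup_left ha) b (mem_sup_left hb) hne (hK a ha).symm (hK b hb).symm
  exact nq (solv _ T (comm h ho hz T.isPGroup' hH h0) fun e he f hf a b c d =>
    uniq h ho hz T.isPGroup' hH he a b hf c d)

theorem cenL' [Finite G] (h : MC G) (L : Subgroup G) (hN : L.Normal) (hp : ⁅L, L⁆ = L)
    (hL : L ≠ ⊥) : centralizer (L : Set G) ≤ center G := fun a ha => by
  have pf : commutator L = ⊤ := by
    apply map_injective L.subtype_injective
    rw [_root_.commutator_def, map_commutator, ← MonoidHom.range_eq_map, range_subtype, hp]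
  have : Nontrivial L := (nontrivial_iff_ne_bot L).2 hL
  obtain ⟨p, pp, P, hP⟩ : ∃ (p : ℕ) (_ : Fact p.Prime) (P : Sylow p L), ¬ (P : Subgroup L).Normal := by
    by_contra H
    push Not at H
    have : Group.IsNilpotent L := ((Group.isNilpotent_of_finite_tfae (G := L)).out 3 0).1 H
    exact (Group.IsSolvable.commutator_lt_top_of_nontrivial L).ne pf
  have fr := Sylow.normalizer_sup_eq_top P
  have mem : ∀ x : L, x ∈ normalizer ((P : Subgroup L) : Set L) →
      (x : G) ∈ normalizer (((P : Subgroup L).map L.subtype : Subgroup G) : Set G) := fun x hx =>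
    le_normalizer_map L.subtype ⟨x, hx, rfl⟩
  have pr : normalizer (((P : Subgroup L).map L.subtype : Subgroup G) : Set G) ≠ ⊤ := fun e =>
    hP ⟨fun x hx g => by
      obtain ⟨y, hy, e'⟩ := (normalizer_eq_top_iff.1 e).conj_mem _ ⟨x, hx, rfl⟩ g
      exact (Subtype.ext e' : y = g * x * g⁻¹) ▸ hy⟩
  have aN : a ∈ normalizer (((P : Subgroup L).map L.subtype : Subgroup G) : Set G) :=
    centralizer_le_normalizer _ (centralizer_le (map_subtype_le _) ha)
  have : ∀ x ∈ normalizer (((P : Subgroup L).map L.subtype : Subgroup G) : Set G),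
      a * x = x * a := fun x hx => by
    by_contra hne
    have hc : normalizer ((P : Subgroup L) : Set L) ≤ centralizer (P : Set L) := fun y hy z hz =>
      Subtype.ext (h _ pr a aN x hx z (mem z (le_normalizer hz)) y (mem y hy) hne
        (ha z z.2).symm (ha y y.2).symm)
    have k : (MonoidHom.transferSylow P hc).ker = ⊤ := by
      rw [eq_top_iff, ← pf]
      refine commutator_le.2 fun y _ z _ => ?_
      rw [MonoidHom.mem_ker, map_commutatorElement, commutatorElement_eq_one_iff_mul_comm]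
      exact Subtype.ext (hc (le_normalizer (Subtype.property _)) _ (Subtype.property _))
    have := (MonoidHom.ker_transferSylow_isComplement' P hc).disjoint
    rw [k, top_disjoint] at this
    exact hP (this ▸ inferInstance)
  refine mem_center_iff.2 fun g => ?_
  obtain ⟨y, hy, z, hz, rfl⟩ := mem_sup_of_normal_right.1 (fr ▸ mem_top g)
  rw [mul_assoc, ha z hz, ← mul_assoc, ← this y hy, mul_assoc]

end R3

theorem rad {G : Type} [Group G] [Finite G] (h : MC G) (ns : ¬ Group.IsSolvable G)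
    (r2 : ∀ Q : Subgroup G, Q.Normal → IsPGroup 2 Q → Q ≤ center G) : Rad G :=
  R3.rad0 h ns r2 (R3.cenL' h)

end Cfsg.Agent.CAm
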