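import Cfsg.Agent.CAm.R2a
import Cfsg.Agent.CAm.R3
import Cfsg.Agent.S0200
import Cfsg.Agent.S0205
import Cfsg.Agent.S0144

set_option autoImplicit false

namespace Cfsg.Agent.CAm

open Subgroup

namespace R2

theorem dih {Γ : Type*} [Group Γ] [Finite Γ] {t h : Γ} (e : t * h * t⁻¹ = h⁻¹)
    (hT : closure {t, h} = ⊤) : Group.IsSolvable Γ := by
  haveI hN : (zpowers h).Normal := by
    rw [← normalizer_eq_top_iff, eq_top_iff, ← hT, closure_le]
    rintro g (rfl | rfl)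
    · refine mem_normalizer_fintype ?_
      rintro _ ⟨k, rfl⟩
      exact ⟨-k, by simp only [← conj_zpow, e, inv_zpow', zpow_neg, inv_zpow]⟩
    · exact le_normalizer (mem_zpowers _)
  have : (zpowers (QuotientGroup.mk' (zpowers h) t)).comap (QuotientGroup.mk' (zpowers h)) = ⊤ := by
    rw [eq_top_iff, ← hT, closure_le]
    rintro g (rfl | rfl)
    · exact mem_zpowers _
    · show QuotientGroup.mk' _ g ∈ zpowers _
      rw [show QuotientGroup.mk' (zpowers g) g = 1 from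
        (QuotientGroup.eq_one_iff g).2 (mem_zpowers g)]
      exact one_mem _
  haveI : Group.IsSolvable (Γ ⧸ zpowers h) := isSolvable_of_comm fun a b => by
    obtain ⟨a, rfl⟩ := QuotientGroup.mk'_surjective _ a
    obtain ⟨b, rfl⟩ := QuotientGroup.mk'_surjective _ b
    obtain ⟨m, hm⟩ := mem_comap.1 (this ▸ mem_top a)
    obtain ⟨n, hn⟩ := mem_comap.1 (this ▸ mem_top b)
    rw [← hm, ← hn]
    exact zpow_mul_comm _ _ _
  haveI : Group.IsSolvable (zpowers h) := isSolvable_of_comm fun a b => by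
    obtain ⟨_, m, rfl⟩ := a
    obtain ⟨_, n, rfl⟩ := b
    exact Subtype.ext (zpow_mul_comm _ _ _)
  exact Group.isSolvable_of_ker_le_range (zpowers h).subtype (QuotientGroup.mk' (zpowers h))
    (by simp)

theorem small {W : Type*} [Group W] [Finite W] (h : Nat.card W ≤ 4) (Γ : Subgroup (MulAut W)) :
    Group.IsSolvable Γ := by
  haveI : Group.IsSolvable (Equiv.Perm W) := by
    have hp : 0 < Nat.card W := Nat.card_pos
    have e := Nat.card_perm (α := W)
    generalize Nat.card W = n at *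
    interval_cases n
    · exact S0144.result 2 3 0 0 Nat.prime_two Nat.prime_three e
    · exact S0144.result 2 3 1 0 Nat.prime_two Nat.prime_three e
    · exact S0144.result 2 3 1 1 Nat.prime_two Nat.prime_three e
    · exact S0144.result 2 3 3 1 Nat.prime_two Nat.prime_three e
  exact Group.isSolvable_of_isSolvable_injective (f := (MulAut.toPerm W).comp Γ.subtype)
    fun a b e => Subtype.ext (MulEquiv.ext fun w => congrArg (fun s : Equiv.Perm W => s w) e)

end R2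

open R2

theorem rad2 {G : Type} [Group G] [Finite G] (h : MC G) (ns : ¬ Group.IsSolvable G)
    (Q : Subgroup G) [Q.Normal] (hQ : IsPGroup 2 Q) : Q ≤ center G := by
  by_contra hc
  obtain ⟨Q, ⟨hn, hQ, hc⟩, hm⟩ := exists_minimal_of_wellFoundedLT
    (fun P : Subgroup G => P.Normal ∧ IsPGroup 2 P ∧ ¬ P ≤ center G) ⟨Q, ‹_›, hQ, hc⟩
  have top : ∀ P : Subgroup G, P.Normal → P ≤ Q → ¬ P ≤ center G → Q ≤ P := fun P a b c =>
    hm ⟨a, hQ.to_le b, c⟩ b
  haveI := hQ.isNilpotent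
  have cq : ∀ a ∈ Q, ∀ b ∈ Q, Commute (pz a) (pz b) := fun a ha b hb => by
    have := (R3.pg (Q := Q) inferInstance hc fun P a b => by
      by_contra c; exact b.not_ge (top P a b.le c)).1 a ha b hb
    rw [← QuotientGroup.eq_one_iff] at this
    exact commutatorElement_eq_one_iff_commute.1 this
  obtain ⟨q0, hq0⟩ := not_forall.1 hc
  obtain ⟨q0Q, q0Z⟩ := Classical.not_imp.1 hq0
  have q2 : ∀ q ∈ Q, q * q ∈ center G := by
    let P : Subgroup G :=
      { carrier := {q | q ∈ Q ∧ pz q * pz q = 1}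
        mul_mem' := fun {a b} ha hb => ⟨mul_mem ha.1 hb.1, by
          show pz a * pz b * (pz a * pz b) = 1
          rw [(cq b hb.1 a ha.1).mul_mul_mul_comm, ha.2, hb.2, one_mul]⟩
        one_mem' := ⟨one_mem _, mul_one _⟩
        inv_mem' := fun {a} ha => ⟨inv_mem ha.1, by
          show (pz a)⁻¹ * (pz a)⁻¹ = 1
          rw [← mul_inv_rev, ha.2, inv_one]⟩ }
    obtain ⟨k, hk⟩ := hQ ⟨q0, q0Q⟩
    obtain ⟨n, n1, n2⟩ := R3.half (K := center G) k
      (by rw [show q0 ^ 2 ^ k = 1 from congrArg Subtype.val hk]; exact one_mem _) q0Z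
    intro q hq
    refine (QuotientGroup.eq_one_iff _).1 (top P ⟨fun a ha g => ⟨hn.1 a ha.1 g, ?_⟩⟩
      (fun a ha => ha.1) (fun c => n1 (c ⟨pow_mem q0Q n, (QuotientGroup.eq_one_iff _).2 n2⟩)) hq).2
    calc _ = pz g * (pz a * pz a) * (pz g)⁻¹ := by simp [pz, mul_assoc]
      _ = 1 := by rw [ha.2]; simp
  let W := Q.map (QuotientGroup.mk' (center G))
  haveI hW : W.Normal := hn.map _ (QuotientGroup.mk'_surjective _)
  let φ : G →* MulAut W := (MulAut.conjNormal (H := W)).comp (QuotientGroup.mk' (center G))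
  have hφ : ∀ g (w : W), φ g w = w ↔ Commute (pz g) w.1 := fun g w => by
    rw [Subtype.ext_iff, commute_iff_eq, ← mul_inv_eq_iff_eq_mul]; rfl
  let ρ := φ.rangeRestrict
  have hρ : ∀ g, ρ g = 1 ↔ ∀ q ∈ Q, Commute (pz g) (pz q) := fun g => by
    rw [Subtype.ext_iff]
    refine ⟨fun e q hq => (hφ g ⟨_, q, hq, rfl⟩).1 ?_, fun e => MulEquiv.ext ?_⟩
    · rw [show φ g = 1 from e]; rfl
    · rintro ⟨_, q, hq, rfl⟩
      exact (hφ g _).2 (e q hq)
  have sur : Function.Surjective ρ := φ.rangeRestrict_surjective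
  have nΓ : ¬ Group.IsSolvable φ.range := fun ⟨n, hs⟩ => by
    refine R3.nsq ns (fun L a b c => R3.cenL' h L a b c) hc ⟨n + 1, ?_⟩
    rw [← map_derivedSeries_eq (QuotientGroup.mk'_surjective _), Subgroup.map_eq_bot_iff,
      QuotientGroup.ker_mk', derivedSeries_succ, commutator_le]
    rw [← map_derivedSeries_eq sur, Subgroup.map_eq_bot_iff] at hs
    intro a ha b hb q hq
    obtain ⟨z, hz, e⟩ : ∃ z ∈ center G, a⁻¹ * q * a⁻¹⁻¹ = q * z :=
      ⟨_, fx.1 ((hρ _).1 (hs (inv_mem ha)) q hq), by group⟩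
    obtain ⟨y, hy, f⟩ : ∃ z ∈ center G, b⁻¹ * q * b⁻¹⁻¹ = q * z :=
      ⟨_, fx.1 ((hρ _).1 (hs (inv_mem hb)) q hq), by group⟩
    have : a⁻¹ * (b⁻¹ * q * b⁻¹⁻¹) * a⁻¹⁻¹ = b⁻¹ * (a⁻¹ * q * a⁻¹⁻¹) * b⁻¹⁻¹ := by
      calc _ = a⁻¹ * (q * y) * a⁻¹⁻¹ := by rw [f]
        _ = (a⁻¹ * q * a⁻¹⁻¹) * (a⁻¹ * y * a⁻¹⁻¹) := by group
        _ = q * y * z := by rw [e, zc hy, mul_assoc, mul_assoc, mem_center_iff.1 hz]
        _ = (b⁻¹ * q * b⁻¹⁻¹) * (b⁻¹ * z * b⁻¹⁻¹) := by rw [f, zc hz]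
        _ = b⁻¹ * (q * z) * b⁻¹⁻¹ := by group
        _ = _ := by rw [e]
    rw [commutatorElement_def]
    calc _ = a * b * (b⁻¹ * (a⁻¹ * q * a⁻¹⁻¹) * b⁻¹⁻¹) * a⁻¹ * b⁻¹ := by group
      _ = _ := by rw [← this]; group
  haveI : Fact (Nat.Prime 2) := ⟨Nat.prime_two⟩
  obtain ⟨t, ht⟩ := exists_prime_orderOf_dvd_card' (G := φ.range) 2
    (even_iff_two_dvd.1 (Nat.not_odd_iff_even.1 fun o => nΓ (S0205.result o)))
  have t1 : t ≠ 1 := fun e => by simp [e] at ht
  obtain ⟨k, k1, ko, e⟩ := S0200.result t ht fun N hN h2 tN => by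
    have d : 2 ∣ Nat.card W := by
      obtain ⟨n, hn⟩ := (IsPGroup.iff_card.1 (hQ.map (QuotientGroup.mk' (center G))))
      rw [hn]
      refine dvd_pow_self 2 fun e => q0Z ?_
      rw [e, pow_zero, card_eq_one, Subgroup.map_eq_bot_iff, QuotientGroup.ker_mk'] at hn
      exact hn q0Q
    obtain ⟨⟨_, b, bQ, rfl⟩, hb, b1⟩ := h2.exists_fixed_point_of_prime_dvd_card_of_fixed_point W d
      (a := 1) fun g => smul_one _
    let P : Subgroup G :=
      { carrier := {q | q ∈ Q ∧ ∀ g, ρ g ∈ N → Commute (pz g) (pz q)}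
        mul_mem' := fun ha hb => ⟨mul_mem ha.1 hb.1, fun g c => (ha.2 g c).mul_right (hb.2 g c)⟩
        one_mem' := ⟨one_mem _, fun g _ => Commute.one_right _⟩
        inv_mem' := fun ha => ⟨inv_mem ha.1, fun g c => (ha.2 g c).inv_right⟩ }
    have := top P ⟨fun a ha s => ⟨hn.1 a ha.1 s, fun g c => ?_⟩⟩ (fun a ha => ha.1) fun c =>
      b1 (Subtype.ext ((QuotientGroup.eq_one_iff b).2
        (c ⟨bQ, fun g c => (hφ g ⟨_, b, bQ, rfl⟩).1 (hb ⟨ρ g, c⟩)⟩)).symm)
    · obtain ⟨g, rfl⟩ := sur t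
      exact t1 ((hρ g).2 fun q hq => (this hq).2 g tN)
    · have := (ha.2 (s⁻¹ * g * s) (by
        rw [map_mul, map_mul, map_inv]; exact hN.conj_mem' _ c _)).eq
      simp only [commute_iff_eq, QuotientGroup.mk_mul, QuotientGroup.mk_inv] at this ⊢
      calc _ = pz s * ((pz s)⁻¹ * pz g * pz s * pz a) * (pz s)⁻¹ := by group
        _ = _ := by rw [this]; group
  obtain ⟨i, rfl⟩ := sur t
  obtain ⟨x, rfl⟩ := sur k
  let H := (closure {ρ i, ρ x}).comap ρ
  have hH : H ≠ ⊤ := fun c => nΓ (dih e (eq_top_iff.2 fun y _ => by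
    obtain ⟨y, rfl⟩ := sur y
    exact mem_comap.1 (c ▸ mem_top y : y ∈ H)))
  have QH : Q ≤ H := fun q hq => by
    rw [mem_comap, (hρ q).2 (cq q hq)]; exact one_mem _
  have hi : i ∈ H := subset_closure (Or.inl rfl)
  have hx : x ∈ H := subset_closure (Or.inr rfl)
  have ii : ρ (i * i) = 1 := by rw [map_mul, ← pow_two, ← ht, pow_orderOf_eq_one]
  have xr : ρ (x ^ orderOf (ρ x)) = 1 := by rw [map_pow, pow_orderOf_eq_one]
  have ix : ρ (i * x * i⁻¹ * x) = 1 := by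
    rw [map_mul, map_mul, map_mul, map_inv, e, inv_mul_cancel]
  by_cases ab : Q ≤ centralizer (Q : Set G)
  · exact abel QH (h H hH) q2 hρ (fun a ha b hb => ab hb a ha) hi hx t1 ii k1 ko xr ix
  · refine nΓ (small (nonab QH (h H hH) q2 hρ (fun a ha c => ?_) cq hi hx t1 ii k1 ko xr ix) _)
    by_contra aZ
    exact ab ((top (Q ⊓ centralizer (Q : Set G)) inferInstance inf_le_left
      fun d => aZ (d ⟨ha, fun q hq => (c q hq).symm⟩)).trans inf_le_right)

end Cfsg.Agent.CAm
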