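import Cfsg.Agent.CAm.A
import Cfsg.Agent.FT
import Cfsg.Agent.S0215
import Cfsg.Agent.H11.Count
import Cfsg.Agent.H11.TwoGp
import Cfsg.Agent.H11.Fus
import Cfsg.Agent.H11.R2

/-! Sylow `2`-subgroups of minimal non-CA-groups. -/

set_option autoImplicit false
set_option linter.style.haveILetI false

namespace Cfsg.Agent.CAm

open Subgroup H11

variable {G : Type} [Group G] [Finite G]

namespace PT

omit [Finite G] in
theorem radq (hr : Rad G) (N : Subgroup (G ⧸ center G)) (hN : N.Normal)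
    (hs : Group.IsSolvable N) : N = ⊥ := by
  have h1 : center G ≤ N.comap (QuotientGroup.mk' (center G)) := fun x hx => by
    rw [mem_comap, QuotientGroup.mk'_apply, (QuotientGroup.eq_one_iff x).2 hx]; exact N.one_mem
  haveI : Group.IsSolvable (center G) := Group.isSolvable_of_comm fun a b =>
      Subtype.ext (mem_center_iff.1 b.2 a)
  have h2 := hr (N.comap (QuotientGroup.mk' (center G))) inferInstance
    (Group.isSolvable_of_ker_le_range (inclusion h1) ((QuotientGroup.mk' (center G)).subgroupComap N)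
      fun x hx => ⟨⟨x, (QuotientGroup.eq_one_iff _).1 (congrArg Subtype.val hx)⟩, rfl⟩)
  rw [eq_bot_iff]
  intro y hy
  obtain ⟨x, rfl⟩ := QuotientGroup.mk'_surjective _ y
  exact (QuotientGroup.eq_one_iff x).2 (h2 hy)

theorem nprop (hr : Rad G) {V : Subgroup G} (hV : IsPGroup 2 V) {z : G} (hz : z ∈ V)
    (h1 : z ∉ center G) : normalizer (V : Set G) ≠ ⊤ := fun e => by
  haveI := hV.isNilpotent
  exact h1 (hr V (normalizer_eq_top_iff.1 e) inferInstance hz)

theorem inT (T : Sylow 2 G) {x t : G} (g : G) (ht : t ∈ (T : Subgroup G)) (e : x = g * t * g⁻¹)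
    (hx : QuotientGroup.mk' (center G) x ∈ (T : Subgroup G).map (QuotientGroup.mk' (center G))) :
    x ∈ (T : Subgroup G) := by
  obtain ⟨s, hs, e1⟩ := hx
  have hc : s⁻¹ * x ∈ center G := QuotientGroup.eq.1 e1
  have hn : x ∈ normalizer ((T : Subgroup G) : Set G) := by
    rw [← mul_inv_cancel_left s x]
    exact mul_mem (le_normalizer hs) (center_le_normalizer _ hc)
  have hp : IsPGroup 2 (zpowers x) := by
    rw [e, ← cj_zpowers]; exact IsPGroup_cj (T.isPGroup'.to_le (zpowers_le.2 ht)) g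
  rw [← T.3 (T.isPGroup'.to_sup_of_normal_left' hp (zpowers_le.2 hn)) le_sup_left]
  exact mem_sup_right (mem_zpowers x)

theorem grow (T : Sylow 2 G) (nab : ¬ IsMulCommutative (T : Subgroup G)) {w u : G} (k : G)
    (hk : cj k T ≤ centralizer {w}) {V : Subgroup G}
    (hV : IsSylIn 2 V (centralizer {w} ⊓ centralizer {u}))
    (ab : ∀ a ∈ V, ∀ b ∈ V, a * b = b * a) :
    ∃ a ∈ normalizer (V : Set G), w * a = a * w ∧ u * a ≠ a * u := by
  obtain ⟨S, hS, hVS⟩ := exists_isSylIn_le hV.pg (hV.le.trans inf_le_left)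
  obtain ⟨c, -, hc⟩ := hS.exists_cj_le (IsPGroup_cj T.isPGroup' k) hk
  rw [← cj_mul, cj_le_iff] at hc
  obtain ⟨a, ha, aV, an⟩ := exists_mem_normalizer_of_lt hS.pg (lt_of_le_of_ne hVS fun e =>
    nab (H3.isMulCommutative_iff_mem.2 fun x hx y hy => by
      have := ab _ (e ▸ hc x hx) _ (e ▸ hc y hy)
      apply (MulAut.conj (c * k)).injective
      rw [map_mul (MulAut.conj (c * k)), map_mul (MulAut.conj (c * k))]
      exact this))
  refine ⟨a, an, (mem_cent1.1 (hS.le ha)).symm, fun e => aV ?_⟩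
  rw [← hV.eq (Q := S ⊓ centralizer {u}) hS.pg.to_inf_left
    (le_inf hVS (hV.le.trans inf_le_right)) (inf_le_inf_right _ hS.le)]
  exact ⟨ha, mem_cent1.2 e.symm⟩

end PT

open PT

variable (h : MC G) (ns : ¬ Group.IsSolvable G) (hr : Rad G) (T : Sylow 2 G)
  (nab : ¬ IsMulCommutative (T : Subgroup G))
include h ns hr nab

omit ns in
theorem tz0 {z : G} (hz : z ∈ T) (c : ∀ t ∈ T, z * t = t * z) (z2 : z * z ∈ center G) :
    z ∈ center G := by
  by_contra z1
  set π := QuotientGroup.mk' (center G) with hπ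
  have o2 : orderOf (π z) = 2 := orderOf_two_of (fun e => z1 ((QuotientGroup.eq_one_iff z).1 e))
    (by rw [← map_mul]; exact (QuotientGroup.eq_one_iff _).2 z2)
  obtain ⟨k, k1, k2⟩ : ∃ g, g * π z * g⁻¹ ∈ T.mapSurjective (QuotientGroup.mk'_surjective _) ∧
      g * π z * g⁻¹ ≠ π z := by
    by_contra hh
    push Not at hh
    obtain ⟨N, hN, ho, hg⟩ := S0215.result (T.mapSurjective (QuotientGroup.mk'_surjective _)) _ o2
      (mem_map_of_mem π hz) hh
    rw [radq hr N hN (FT.solvable_of_odd ho)] at hg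
    have : π z ∈ center (G ⧸ center G) := mem_center_iff.2 fun g => by
      have := mem_bot.1 (hg g)
      rw [mul_inv_eq_one, mul_inv_eq_iff_eq_mul] at this
      exact this.symm
    rw [radq hr (center _) inferInstance
      (Group.isSolvable_of_comm fun a b =>
      Subtype.ext (mem_center_iff.1 b.2 a))] at this
    exact z1 ((QuotientGroup.eq_one_iff z).1 (mem_bot.1 this))
  obtain ⟨g, rfl⟩ := QuotientGroup.mk'_surjective _ k
  have uT : g * z * g⁻¹ ∈ (T : Subgroup G) := inT T g hz rfl (by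
    rw [map_mul, map_mul, map_inv]; exact k1)
  have uz : g * z * g⁻¹ ≠ z := fun e => k2 (by rw [← map_inv, ← map_mul, ← map_mul, e])
  set u := g * z * g⁻¹ with hu
  have zu : z * u = u * z := c u uT
  obtain ⟨t, tT, ht⟩ : ∃ t ∈ (T : Subgroup G), u * t ≠ t * u := by
    by_contra hh
    push Not at hh
    obtain ⟨n, hn, e⟩ := T.conj_eq_normalizer_conj_of_mem_centralizer z g⁻¹
      (fun p hp => (c p hp).symm) (fun p hp => by rw [inv_inv]; exact (hh p hp).symm)
    rw [inv_inv] at e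
    refine nab (H3.isMulCommutative_iff_mem.2 fun a ha b hb => h _ (nprop hr T.isPGroup' hz z1)
      z (le_normalizer hz) n hn a (le_normalizer ha) b (le_normalizer hb) (fun e1 => uz ?_)
      (c a ha) (c b hb))
    rw [hu, e, mul_assoc, e1, inv_mul_cancel_left]
  have TC : (T : Subgroup G) ≤ centralizer {z} := fun a ha => mem_cent1.2 (c a ha).symm
  have abA : ∀ a ∈ centralizer {z} ⊓ centralizer {u}, ∀ b ∈ centralizer {z} ⊓ centralizer {u},
      a * b = b * a := fun a ha b hb =>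
    h (centralizer {z}) (fun e => z1 (mem_center_iff.2 fun p => mem_cent1.1 (e ▸ mem_top p)))
      u (TC uT) t (TC tT) a ha.1 b hb.1 ht (mem_cent1.1 ha.2).symm (mem_cent1.1 hb.2).symm
  obtain ⟨V, hV, hle⟩ := exists_isSylIn_le (p := 2)
    (Q := (T : Subgroup G) ⊓ centralizer {u}) T.isPGroup'.to_inf_left (inf_le_inf_right _ TC)
  have ab : ∀ a ∈ V, ∀ b ∈ V, a * b = b * a := fun a ha b hb => abA a (hV.le ha) b (hV.le hb)
  have zV : z ∈ V := hle ⟨hz, mem_cent1.2 zu⟩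
  obtain ⟨a, an, a1, a2⟩ := grow T nab 1 (by rw [cj_one]; exact TC) hV ab
  obtain ⟨b, bn, -, b2⟩ := grow T nab (w := u) (u := z) g
    (by rw [hu, ← cj_cent1]; exact cj_mono g TC) (by rw [inf_comm]; exact hV) ab
  exact a2 (h _ (nprop hr hV.pg zV z1) z (le_normalizer zV) b bn u
    (le_normalizer (hle ⟨uT, mem_cent1.2 rfl⟩)) a an b2 zu a1)

set_option linter.unusedSectionVars false in
theorem tz {z : G} (hz : z ∈ T) (c : ∀ t ∈ T, z * t = t * z) : z ∈ center G := by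
  by_contra z1
  obtain ⟨j, h1, h2⟩ := H3.exists_pow_not_mem_pow_mem (p := 2) z1 (by
    obtain ⟨k, hk⟩ := T.isPGroup' ⟨z, hz⟩
    exact ⟨k, by rw [show z ^ 2 ^ k = 1 from congrArg Subtype.val hk]; exact one_mem _⟩)
  exact h1 (tz0 h hr T nab ((T : Subgroup G).pow_mem hz _)
    (fun t ht => (Commute.pow_left (c t ht) _).eq) (by rwa [pow_two] at h2))

/-- structure of a non-abelian Sylow `2`-subgroup -/
theorem str : ∃ A : Subgroup G, A ≤ T ∧ (∀ a ∈ A, ∀ b ∈ A, a * b = b * a) ∧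
    (∀ c ∈ T, c ∈ center G → c ∈ A) ∧
    (∀ y ∈ A, y ∉ center G → ∀ t ∈ T, t * y = y * t → t ∈ A) ∧
    (∀ t ∈ T, t ∉ A → t * t ∈ center G) ∧ (∃ t ∈ T, t ∉ A) ∧
    ∃ z ∈ A, z ∉ center G ∧ ∀ t ∈ T, t * z * t⁻¹ * z⁻¹ ∈ center G := by
  set π := QuotientGroup.mk' (center G) with hπ
  obtain ⟨_, ⟨z, hz, rfl⟩, z1, z2, z3⟩ := exists_central_invol (T.isPGroup'.map π) (fun e =>
    nab (H3.isMulCommutative_iff_mem.2 fun a ha b hb => by
      have e1 : π b = 1 := by
        rw [← mem_bot, ← card_eq_one.1 e]; exact ⟨b, hb, rfl⟩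
      exact mem_center_iff.1 ((QuotientGroup.eq_one_iff b).1 e1) a))
  have zZ : z ∉ center G := fun e => z1 ((QuotientGroup.eq_one_iff z).2 e)
  have zz : z * z ∈ center G := (QuotientGroup.eq_one_iff _).1 ((map_mul π z z).trans z2)
  have z4 : ∀ t ∈ T, t * z * t⁻¹ * z⁻¹ ∈ center G := fun t ht => by
    rw [← QuotientGroup.eq_one_iff, ← QuotientGroup.mk'_apply, map_mul, map_mul, map_mul, map_inv,
      map_inv, z3 _ ⟨t, ht, rfl⟩, ← hπ]
    group
  have Tp : (T : Subgroup G) ≠ ⊤ := fun e => ns (by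
    haveI := T.isPGroup'.isNilpotent
    rw [e] at this
    exact Group.isSolvable_of_surjective (f := (topEquiv (G := G)).toMonoidHom)
      (topEquiv (G := G)).surjective)
  have ca : ∀ y ∈ T, y ∉ center G → ∀ a ∈ T, ∀ b ∈ T, y * a = a * y → y * b = b * y →
      a * b = b * a := fun y hy y1 a ha b hb e1 e2 => by
    obtain ⟨t, ht, e⟩ : ∃ t ∈ T, y * t ≠ t * y := by
      by_contra hh; push Not at hh; exact y1 (tz h ns hr T nab hy hh)
    exact h _ Tp y hy t ht a ha b hb e e1 e2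
  have k4 : ∀ y ∈ (T : Subgroup G) ⊓ centralizer {z}, y ∉ center G → ∀ t ∈ T, t * y = y * t →
      t ∈ (T : Subgroup G) ⊓ centralizer {z} := fun y hy y1 t ht e =>
    ⟨ht, mem_cent1.2 (ca y hy.1 y1 t ht z hz e.symm (mem_cent1.1 hy.2))⟩
  refine ⟨T ⊓ centralizer {z}, inf_le_left, fun a ha b hb => ca z hz zZ a ha.1 b hb.1
    (mem_cent1.1 ha.2).symm (mem_cent1.1 hb.2).symm,
    fun c hc c1 => ⟨hc, mem_cent1.2 (mem_center_iff.1 c1 z).symm⟩, k4, fun t ht t1 => ?_, ?_,
    z, ⟨hz, mem_cent1.2 rfl⟩, zZ, z4⟩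
  · by_contra t2
    refine t1 (k4 _ ⟨(T : Subgroup G).mul_mem ht ht, mem_cent1.2 ?_⟩ t2 t ht (by group))
    have e := mem_center_iff.1 (z4 t ht)
    set d := t * z * t⁻¹ * z⁻¹ with hd
    have e1 : t * z * t⁻¹ = d * z := by rw [hd]; group
    have e2 : d * d = 1 := by
      have e3 : t * (z * z) * t⁻¹ = d * d * (z * z) := by
        calc t * (z * z) * t⁻¹ = t * z * t⁻¹ * (t * z * t⁻¹) := by group
          _ = d * (z * d) * z := by rw [e1]; group
          _ = _ := by rw [e z]; group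
      rw [mem_center_iff.1 zz t, mul_inv_cancel_right] at e3
      exact right_eq_mul.1 e3
    rw [← mul_inv_eq_iff_eq_mul]
    calc t * t * z * (t * t)⁻¹ = t * (t * z * t⁻¹) * t⁻¹ := by group
      _ = (t * d) * z * t⁻¹ := by rw [e1]; group
      _ = d * (t * z * t⁻¹) := by rw [e t]; group
      _ = z := by rw [e1, ← mul_assoc, e2, one_mul]
  · by_contra hh
    push Not at hh
    exact zZ (tz h ns hr T nab hz fun t ht => (mem_cent1.1 (hh t ht).2).symm)

omit [Finite G] h ns hr nab in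
theorem PT.invt {A : Subgroup G} (hA : A ≤ T) (k : ∀ t ∈ T, t ∉ A → t * t ∈ center G) {t a : G}
    (ht : t ∈ T) (t1 : t ∉ A) (ha : a ∈ A) : QuotientGroup.mk' (center G) t *
      QuotientGroup.mk' (center G) a * (QuotientGroup.mk' (center G) t)⁻¹ =
      (QuotientGroup.mk' (center G) a)⁻¹ := by
  have e1 := (QuotientGroup.eq_one_iff _).2 (k t ht t1)
  have e2 := (QuotientGroup.eq_one_iff _).2 (k (t * a) ((T : Subgroup G).mul_mem ht (hA ha))
    fun e => t1 ((A.mul_mem_cancel_right ha).1 e))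
  rw [← QuotientGroup.mk'_apply, map_mul] at e1 e2
  rw [map_mul] at e2
  rw [inv_eq_of_mul_eq_one_right e1, eq_inv_iff_mul_eq_one, ← e2]; group

theorem tinv {x : G} (h2 : ∃ k, x ^ 2 ^ k = 1) (hx : x ∉ center G) (hs : x * x ∈ center G) :
    ∃ y, x * y ≠ y * x ∧ x * y * x⁻¹ * y⁻¹ ∈ center G := by
  obtain ⟨A, AT, -, -, k4, k5, ⟨t, tT, tA⟩, z, zA, zZ, z4⟩ := str h ns hr T nab
  obtain ⟨g, hg⟩ := exists_conj_le_sylow T (Q := zpowers x) (by
    obtain ⟨k, hk⟩ := h2
    rintro ⟨_, n, rfl⟩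
    exact ⟨k, Subtype.ext (by
      show (x ^ n) ^ 2 ^ k = 1
      rw [← zpow_natCast, ← zpow_mul, mul_comm, zpow_mul, zpow_natCast, hk, one_zpow])⟩)
  have xT := hg x (mem_zpowers x)
  have cz : ∀ w, g * w * g⁻¹ ∈ center G ↔ w ∈ center G := fun w =>
    ⟨fun e => by simpa [mul_assoc] using (inferInstance : (center G).Normal).conj_mem _ e g⁻¹,
      fun e => (inferInstance : (center G).Normal).conj_mem _ e g⟩
  suffices ∃ y, g * x * g⁻¹ * y ≠ y * (g * x * g⁻¹) ∧
      g * x * g⁻¹ * y * (g * x * g⁻¹)⁻¹ * y⁻¹ ∈ center G by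
    obtain ⟨y, y1, y2⟩ := this
    refine ⟨g⁻¹ * y * g, fun e => y1 ?_, (cz _).1 (by convert y2 using 1; group)⟩
    calc g * x * g⁻¹ * y = g * (x * (g⁻¹ * y * g)) * g⁻¹ := by group
      _ = _ := by rw [e]; group
  have x1 := mt (cz x).1 hx
  have x2 : g * x * g⁻¹ * (g * x * g⁻¹) ∈ center G := by
    convert (cz _).2 hs using 1; group
  generalize g * x * g⁻¹ = w at xT x1 x2
  by_cases wA : w ∈ A
  · refine ⟨t, fun e => tA (k4 w wA x1 t tT e.symm), ?_⟩
    have e := PT.invt T AT k5 tT tA wA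
    have e2 := (QuotientGroup.eq_one_iff _).2 x2
    rw [← QuotientGroup.mk'_apply, map_mul] at e2
    rw [inv_eq_of_mul_eq_one_right e2, mul_inv_eq_iff_eq_mul] at e
    rw [← QuotientGroup.eq_one_iff, ← QuotientGroup.mk'_apply, map_mul, map_mul, map_mul, map_inv,
      map_inv, ← e]
    group
  · exact ⟨z, fun e => wA (k4 z zA zZ w xT e), z4 w xT⟩

theorem tdih (no2 : ∀ M : Subgroup G, M.index ≠ 2) :
    (∀ a ∈ T, ∀ b ∈ T, a * b * a⁻¹ * b⁻¹ ∈ center G) ∨
      ∃ (S : Sylow 2 (G ⧸ center G)) (n : ℕ), 2 ≤ n ∧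
        Nonempty ((S : Subgroup (G ⧸ center G)) ≃* DihedralGroup n) := by
  obtain ⟨A, AT, ab, ZA, k4, k5, ⟨t, tT, tA⟩, z, zA, zZ, -⟩ := str h ns hr T nab
  have inv := fun {t a : G} => PT.invt T AT k5 (t := t) (a := a)
  set π := QuotientGroup.mk' (center G) with hπ
  have one : ∀ x, π x = 1 ↔ x ∈ center G := fun x => QuotientGroup.eq_one_iff x
  by_cases he : ∀ a ∈ A, π a * π a = 1
  · left
    have sq : ∀ x ∈ (T : Subgroup G).map π, x * x = 1 := by
      rintro _ ⟨a, ha, rfl⟩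
      by_cases a1 : a ∈ A
      · exact he a a1
      · rw [← map_mul, one]; exact k5 a ha a1
    intro a ha b hb
    rw [← one, map_mul, map_mul, map_mul, map_inv, map_inv,
      comm_of_sq_eq_one sq ⟨a, ha, rfl⟩ ⟨b, hb, rfl⟩]
    group
  push Not at he
  obtain ⟨a0, a0A, a02⟩ := he
  have di : ∀ s ∈ T, s ∉ A → ∀ r ∈ T, r ∉ A → s * r ∈ A := fun s hs s1 r hr r1 => by
    by_contra sr
    have e := inv ((T : Subgroup G).mul_mem hs hr) sr a0A
    have e1 := inv hs s1 (A.inv_mem a0A)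
    rw [map_inv, inv_inv] at e1
    apply a02
    rw [← eq_inv_iff_mul_eq_one, ← e, map_mul]
    calc π a0 = π s * (π a0)⁻¹ * (π s)⁻¹ := e1.symm
      _ = π s * (π r * π a0 * (π r)⁻¹) * (π s)⁻¹ := by rw [inv hr r1 a0A]
      _ = _ := by group
  have lift : ∀ s ∈ T, π s ∈ A.map π → s ∈ A := by
    rintro s hs ⟨a, ha, e⟩
    rw [← mul_inv_cancel_left a s]
    exact A.mul_mem ha (ZA _ ((T : Subgroup G).mul_mem ((T : Subgroup G).inv_mem (AT ha)) hs)
      (QuotientGroup.eq.1 e))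
  have tA' : π t ∉ A.map π := fun e => tA (lift t tT e)
  have tt : π t * π t = 1 := by rw [← map_mul, one]; exact k5 t tT tA
  set S := T.mapSurjective (QuotientGroup.mk'_surjective (center G)) with hS
  have hSe : (S : Subgroup (G ⧸ center G)) = (T : Subgroup G).map π := rfl
  by_cases hc : IsCyclic (A.map π)
  · obtain ⟨b, hb⟩ := (Subgroup.isCyclic_iff_exists_zpowers_eq_top _).1 hc
    obtain ⟨a, aA, rfl⟩ : b ∈ A.map π := hb ▸ mem_zpowers b
    right
    refine ⟨S, orderOf (π a), ?_, ?_⟩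
    · by_contra hlt
      have h0 := orderOf_pos (π a)
      have h1 : π a = 1 := orderOf_eq_one_iff.1 (by omega)
      have h2 : π z ∈ zpowers (π a) := hb ▸ ⟨z, zA, rfl⟩
      rw [h1, zpowers_one_eq_bot, mem_bot, one] at h2
      exact zZ h2
    · have e : closure {π a, π t} = (S : Subgroup (G ⧸ center G)) := by
        apply le_antisymm
        · rw [closure_le]
          rintro _ (rfl | rfl)
          exacts [⟨a, AT aA, rfl⟩, ⟨t, tT, rfl⟩]
        · have hA : A.map π ≤ closure {π a, π t} := by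
            rw [← hb, zpowers_le]; exact subset_closure (by simp)
          rintro _ ⟨s, hs, rfl⟩
          by_cases s1 : s ∈ A
          · exact hA ⟨s, s1, rfl⟩
          · rw [← mul_inv_cancel_right s t, map_mul, map_inv]
            exact mul_mem (hA ⟨_, di s hs s1 t tT tA, rfl⟩) (inv_mem (subset_closure (Or.inr rfl)))
      rw [← e]
      exact nonempty_closure_equiv_dihedral (orderOf_pos _) rfl (inv tT tA aA) tt (hb ▸ tA')
  exfalso
  have abq : ∀ a ∈ A.map π, ∀ b ∈ A.map π, a * b = b * a := by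
    rintro _ ⟨a, ha, rfl⟩ _ ⟨b, hb, rfl⟩
    rw [← map_mul, ab a ha b hb, map_mul]
  obtain ⟨V, VA, hV⟩ := exists_klein_of_not_isCyclic
    ((T.isPGroup'.to_le AT).map π) abq hc
  have cen : ∀ b ∈ A.map π, b * b = 1 → ∀ s ∈ (S : Subgroup (G ⧸ center G)), s * b = b * s := by
    rintro _ ⟨b, hb, rfl⟩ b2 _ ⟨s, hs, rfl⟩
    by_cases s1 : s ∈ A
    · exact abq _ ⟨s, s1, rfl⟩ _ ⟨b, hb, rfl⟩
    · have := inv hs s1 hb
      rwa [inv_eq_of_mul_eq_one_right b2, mul_inv_eq_iff_eq_mul] at this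
  obtain ⟨g, hg⟩ := thompson_transfer_sylow (fun M e => no2 (M.comap π) (by
      rw [index_comap_of_surjective _ (QuotientGroup.mk'_surjective _), e])) S (map_mono AT)
    (relIndex_eq_two_of (a := π t) ⟨t, tT, rfl⟩ tA' (by
      rintro _ ⟨s, hs, rfl⟩
      by_cases s1 : s ∈ A
      · exact Or.inl ⟨s, s1, rfl⟩
      · exact Or.inr ⟨_, di s hs s1 t tT tA, map_mul _ _ _⟩)) tt
  obtain ⟨k, k1, k2⟩ := exists_conj_cent_le (p := 2) (S := S)
    (R := (S : Subgroup (G ⧸ center G)) ⊓ centralizer {π t})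
    (isSylIn_of_sylow_le S fun s hs => mem_cent1.2 (cen _ hg (by
      calc _ = g * (π t * π t) * g⁻¹ := by group
        _ = 1 := by rw [tt]; group) s hs))
    (isConj_iff.2 ⟨g, rfl⟩) S.isPGroup'.to_inf_left inf_le_right
  obtain ⟨k, rfl⟩ := QuotientGroup.mk'_surjective _ k
  have pc : ∀ v, π (k * v * k⁻¹) = π k * π v * (π k)⁻¹ := fun v => by
    rw [map_mul, map_mul, map_inv]
  have tk : k * t * k⁻¹ ∈ A := lift _ (inT T k tT rfl (by rw [pc, k1]; exact map_mono AT hg))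
    (by rw [pc, k1]; exact hg)
  have vT : ∀ v ∈ A, π v ∈ V → k * v * k⁻¹ ∈ T := fun v hv v1 => inT T k (AT hv) rfl (by
    rw [pc]
    exact cj_le_iff.1 k2 _ ⟨⟨v, AT hv, rfl⟩, mem_cent1.2
      (cen _ ⟨v, hv, rfl⟩ (klein_sq hV v1) _ ⟨t, tT, rfl⟩).symm⟩)
  have vA : ∀ v ∈ A, π v ≠ 1 → k * v * k⁻¹ ∉ A := fun v hv v1 e =>
    tA (k4 v hv (fun c => v1 ((one v).2 c)) t tT (by
      apply (MulAut.conj k).injective
      simpa only [map_mul, MulAut.conj_apply] using ab _ tk _ e))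
  obtain ⟨b1, hb1, b2, hb2, o1, o2, hne⟩ := klein_exists_gens hV
  obtain ⟨v1, v1A, rfl⟩ := VA hb1
  obtain ⟨v2, v2A, rfl⟩ := VA hb2
  refine vA _ (A.mul_mem v1A v2A) (fun e => hne ?_) ?_
  · rw [map_mul] at e
    rw [← inv_eq_of_mul_eq_one_right e, inv_eq_of_mul_eq_one_right (klein_sq hV hb1)]
  · convert di _ (vT v1 v1A hb1) (vA v1 v1A o1) _ (vT v2 v2A hb2) (vA v2 v2A o2) using 1
    group

end Cfsg.Agent.CAm
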