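/-
Minimal non-CA-groups: assembly.
-/
import Cfsg.Agent.CAm.R2
import Cfsg.Agent.CAm.AS
import Cfsg.Agent.CAm.T
import Cfsg.Agent.CAm.ID
import Cfsg.Agent.CAm.OUT
import Cfsg.Agent.CAm.AR
import Cfsg.Agent.CAm.CV

set_option autoImplicit false

namespace Cfsg.Agent.CAm

open Subgroup

variable {G : Type} [Group G] [Finite G]

local notation "P" => Matrix.ProjectiveSpecialLinearGroup (Fin 2)

theorem mk_comm {G : Type*} [Group G] {a b : G} :
    (a : G ⧸ center G) * b = b * a ↔ a * b * a⁻¹ * b⁻¹ ∈ center G := by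
  rw [← QuotientGroup.eq_one_iff, ← mul_inv_eq_one, mul_inv_rev, ← mul_assoc]
  simp

theorem ab2 {G : Type*} [Group G] [Finite G] (ab : ∀ T : Sylow 2 G, IsMulCommutative (T : Subgroup G)) {K : Type*}
    [Group K] [Finite K] (L : Subgroup G) (f : L →* K) (hf : Function.Surjective f) (T : Sylow 2 K) :
    IsMulCommutative (T : Subgroup K) := by
  obtain ⟨S, rfl⟩ := Sylow.mapSurjective_surjective hf 2 T
  obtain ⟨R, hR⟩ := (S.isPGroup'.map L.subtype).exists_le_sylow
  refine ⟨⟨fun a b => Subtype.ext ?_⟩⟩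
  obtain ⟨c, hc, e1⟩ := mem_map.1 a.2
  obtain ⟨d, hd, e2⟩ := mem_map.1 b.2
  have := congrArg Subtype.val ((ab R).1.1 ⟨c, hR (mem_map_of_mem _ hc)⟩ ⟨d, hR (mem_map_of_mem _ hd)⟩)
  rw [coe_mul, coe_mul, ← e1, ← e2, ← map_mul, ← map_mul, show c * d = d * c from Subtype.ext this]

theorem solv_of {D : Subgroup G} (h : ∀ a ∈ D, ∀ b ∈ D, a * b * a⁻¹ * b⁻¹ ∈ center G) : Group.IsSolvable D := by
  refine ⟨⟨2, ?_⟩⟩
  have h1 : derivedSeries D 1 ≤ (center G).subgroupOf D := by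
    rw [derivedSeries_succ, commutator_le]
    exact fun a _ b _ => h a a.2 b b.2
  rw [derivedSeries_succ, eq_bot_iff, commutator_le]
  intro a ha b _
  exact mem_bot.2 (commutatorElement_eq_one_iff_mul_comm.2 (Subtype.ext (mem_center_iff.1 (h1 ha) b).symm))

/-- An element whose centralizer is not abelian commutes with all elements commuting with it modulo the centre. -/
theorem wit_comm (h : MC G) (hr : Rad G) {x y z : G} (hx : x ∉ center G) (hy : x * y = y * x) (hz : x * z = z * x)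
    (hyz : y * z ≠ z * y) {w : G} (hw : x * w * x⁻¹ * w⁻¹ ∈ center G) : x * w = w * x := by
  let H := (centralizer ({(x : G ⧸ center G)} : Set (G ⧸ center G))).comap (QuotientGroup.mk' _)
  have hH : ∀ g, g ∈ H ↔ x * g * x⁻¹ * g⁻¹ ∈ center G := fun g => by
    rw [← mk_comm]; exact mem_centralizer_singleton_iff.trans eq_comm
  have hc : ∀ g, x * g = g * x → g ∈ H := fun g e => (hH g).2 (by rw [e]; simp)
  by_contra hn
  refine hyz (h H (fun e => hx ?_) x (hc x rfl) w ((hH w).2 hw) y (hc y hy) z (hc z hz) hn hy hz)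
  let D := (center (G ⧸ center G)).comap (QuotientGroup.mk' (center G))
  refine hr D inferInstance (solv_of fun a ha b _ => mk_comm.1 (mem_center_iff.1 ha (b : G ⧸ center G)).symm) ?_
  refine mem_center_iff.2 fun g => ?_
  obtain ⟨g, rfl⟩ := QuotientGroup.mk_surjective g
  exact (mk_comm.2 ((hH g).1 (e ▸ mem_top g))).symm

theorem cen_mk {N : Subgroup G} [N.Normal] (hp : Group.IsPerfect N) {g : G}
    (h : ∀ n ∈ N, g * n * g⁻¹ * n⁻¹ ∈ center G) : g ∈ centralizer (N : Set G) := by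
  have h2 : commutator N ≤ (centralizer {g}).subgroupOf N := by
    rw [commutator_def, commutator_le]
    intro a _ b _
    obtain ⟨c, hc, e1⟩ : ∃ c ∈ center G, g * a * g⁻¹ = c * a := ⟨_, h a a.2, by group⟩
    obtain ⟨d, hd, e2⟩ : ∃ d ∈ center G, g * b * g⁻¹ = d * b := ⟨_, h b b.2, by group⟩
    refine mem_centralizer_singleton_iff.2 (eq_comm.1 (mul_inv_eq_iff_eq_mul.1 ?_))
    change g * ((a : G) * b * (a : G)⁻¹ * (b : G)⁻¹) * g⁻¹ = (a : G) * b * (a : G)⁻¹ * (b : G)⁻¹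
    rw [show g * ((a : G) * b * (a : G)⁻¹ * (b : G)⁻¹) * g⁻¹ =
      (g * a * g⁻¹) * (g * b * g⁻¹) * (g * a * g⁻¹)⁻¹ * (g * b * g⁻¹)⁻¹ by group, e1, e2]
    calc _ = c * (a * (d * b) * (a : G)⁻¹) * c⁻¹ * (b : G)⁻¹ * d⁻¹ := by group
      _ = d * (a * b * (a : G)⁻¹ * (b : G)⁻¹) * d⁻¹ := by
        rw [← mem_center_iff.1 hc, mul_inv_cancel_right, ← mul_assoc (a : G), mem_center_iff.1 hd]; group
      _ = _ := by rw [← mem_center_iff.1 hd, mul_inv_cancel_right]
  rw [hp.commutator_eq_top] at h2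
  exact mem_centralizer_iff.2 fun n hn => mem_centralizer_singleton_iff.1 (h2 (mem_top (⟨n, hn⟩ : N)))

theorem in2 {N : Subgroup G} [N.Normal] (hq : IsQuasisimple N) (hne : N ≠ ⊥)
    (hC : centralizer (N : Set G) ≤ center G) (nc : ¬ IsMulCommutative (N ⧸ center N))
    (ab : ∀ T : Sylow 2 G, IsMulCommutative (T : Subgroup G)) {x : G} (hs : x * x ∈ center G) :
    x ∈ N ⊔ center G := by
  by_contra hx
  let π := QuotientGroup.mk' (center G)
  let L := N ⊔ center G ⊔ zpowers x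
  let f := π.comp L.subtype
  let S := (N.map π).subgroupOf f.range
  have hN : N ≤ L := le_sup_left.trans le_sup_left
  have hNf : N.map π ≤ f.range := by
    rintro _ ⟨n, hn, rfl⟩; exact ⟨⟨n, hN hn⟩, rfl⟩
  have hk : (π.comp N.subtype).ker = center N := by
    ext n
    rw [MonoidHom.mem_ker, mem_center_iff]
    refine (QuotientGroup.eq_one_iff _).trans ⟨fun e m => Subtype.ext (mem_center_iff.1 e m), fun e => hC ?_⟩
    exact mem_centralizer_iff.2 fun m hm => congrArg Subtype.val (e ⟨m, hm⟩)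
  have hr : (π.comp N.subtype).range = N.map π := by
    rw [MonoidHom.range_comp, range_subtype]
  have e : (N ⧸ center N) ≃* S := ((QuotientGroup.quotientMulEquivOfEq hk.symm).trans
    ((QuotientGroup.quotientKerEquivRange _).trans (MulEquiv.subgroupCongr hr))).trans
      (subgroupOfEquivOfLe hNf).symm
  have := hq.2
  have : IsSimpleGroup S := e.symm.isSimpleGroup
  have : (N.map π).Normal := Normal.map inferInstance π (QuotientGroup.mk'_surjective _)
  have hm : ∀ g, π g ∈ N.map π ↔ g ∈ N ⊔ center G := fun g => by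
    rw [← mem_comap, comap_map_eq, QuotientGroup.ker_mk']
  refine z2 S (fun c => nc ⟨⟨fun a b => e.injective (by rw [map_mul, map_mul, c.1.1])⟩⟩) ?_ ?_ default
    (ab2 ab L f.rangeRestrict f.rangeRestrict_surjective _)
  · rw [eq_bot_iff]
    rintro ⟨_, g, rfl⟩ hg
    refine mem_bot.2 (Subtype.ext ((QuotientGroup.eq_one_iff _).2 (hC (cen_mk hq.1 fun n hn => mk_comm.1 ?_))))
    exact (congrArg Subtype.val (mem_centralizer_iff.1 hg ⟨π n, hNf (mem_map_of_mem π hn)⟩
      (mem_map_of_mem π hn))).symm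
  · rw [index_eq_two_iff']
    refine ⟨⟨π x, ⟨x, mem_sup_right (mem_zpowers x)⟩, rfl⟩, ?_⟩
    rintro ⟨_, ⟨g, hg⟩, rfl⟩
    change Xor (π x * π g ∈ N.map π) (π g ∈ N.map π)
    rw [← map_mul, hm, hm]
    obtain ⟨a, ha, _, ⟨k, rfl⟩, rfl⟩ := mem_sup_of_normal_left.1 hg
    have h1 : ∀ j : ℤ, x ^ (2 * j) ∈ N ⊔ center G := fun j => by
      rw [zpow_mul, zpow_two]; exact zpow_mem (mem_sup_right hs) j
    have h2 : x * (a * x ^ k) ∈ N ⊔ center G ↔ x ^ (k + 1) ∈ N ⊔ center G := by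
      rw [show x * (a * x ^ k) = x * a * x⁻¹ * x ^ (k + 1) by group]
      exact mul_mem_cancel_left (Normal.conj_mem inferInstance a ha x)
    simp only
    rw [h2, mul_mem_cancel_left ha]
    rcases Int.even_or_odd' k with ⟨j, rfl | rfl⟩
    · exact Or.inr ⟨h1 j, fun e => hx (by rwa [zpow_add_one, mul_mem_cancel_left (h1 j)] at e)⟩
    · exact Or.inl ⟨by rw [add_assoc, show (1 : ℤ) + 1 = 2 * 1 by rfl, ← mul_add]; exact h1 _,
        fun e => hx (by rwa [zpow_add_one, mul_mem_cancel_left (h1 j)] at e)⟩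

theorem main (h : MC G) (ns : ¬ Group.IsSolvable G) (nc : ¬ CA G) :
    ∃ (F : Type) (_ : Field F) (_ : Fintype F), Nonempty (G ≃* P F) ∧
      (((Fintype.card F).Prime ∧ 5 < Fintype.card F ∧ ¬ 16 ∣ Fintype.card F ^ 2 - 1) ∨
        (∃ p : ℕ, p.Prime ∧ p ≠ 2 ∧ (Fintype.card F = 3 ^ p ∨ Fintype.card F = 5 ^ p))) := by
  have hr : Rad G := rad h ns fun Q _ => rad2 h ns Q
  obtain ⟨N, hN, hq, hne, hC⟩ := qs h ns hr
  have nt : Nontrivial N := (nontrivial_iff_ne_bot N).2 hne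
  have := hq.1
  have := hq.2
  have nsN : ¬ Group.IsSolvable N := Group.IsPerfect.not_isSolvable N
  have hrN : Rad N := rad (h.sub N) nsN fun Q _ => rad2 (h.sub N) nsN Q
  have ncN : ¬ IsMulCommutative (N ⧸ center N) := fun c => nsN (by
    have := solv_of (D := (⊤ : Subgroup N)) fun a _ b _ => mk_comm.1 (c.1.1 _ _)
    exact Group.isSolvable_of_surjective (f := (⊤ : Subgroup N).subtype) fun a => ⟨⟨a, mem_top a⟩, rfl⟩)
  obtain ⟨F, _, _, h3, ⟨e⟩⟩ := ident (h.sub N) hq nt fun T nab => tdih (h.sub N) nsN hrN T nab fun M hM => by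
    have := normal_of_index_eq_two hM
    have h1 : commutator N ≤ M := by
      rw [commutator_def, commutator_le]
      intro a _ b _
      rw [commutatorElement_def, mul_mem_iff_of_index_two hM, mul_mem_iff_of_index_two hM,
        mul_mem_iff_of_index_two hM, inv_mem_iff, inv_mem_iff]
      tauto
    rw [Group.IsPerfect.commutator_eq_top, top_le_iff] at h1
    simp [h1] at hM
  obtain ⟨x0, k0, y, z, h4, hy0, hz0, hyz⟩ : ∃ x k y z : G, x * k ≠ k * x ∧ x * y = y * x ∧ x * z = z * x ∧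
      y * z ≠ z * y := by
    by_contra c
    exact nc fun x k y z a1 a2 a3 => by_contra fun a4 => c ⟨x, k, y, z, a1, a2, a3, a4⟩
  obtain ⟨x, r, hp, hx, hxr, ⟨k, hk⟩, hy, hz⟩ : ∃ (x : G) (r : ℕ), r.Prime ∧ x ∉ center G ∧ x ^ r ∈ center G ∧
      (∃ k, x ^ r ^ k = 1) ∧ x * y = y * x ∧ x * z = z * x := by
    have h5 : orderOf (x0 : G ⧸ center G) ≠ 1 := fun c => h4 (mem_center_iff.1
      ((QuotientGroup.eq_one_iff _).1 (orderOf_eq_one_iff.1 c)) k0).symm
    obtain ⟨r, hp, m, hm⟩ := Nat.exists_prime_and_dvd h5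
    obtain ⟨k, l, hl, h6⟩ := Nat.exists_eq_pow_mul_and_not_dvd (orderOf_pos (x0 ^ m)).ne' r hp.ne_one
    have h7 : orderOf ((x0 : G ⧸ center G) ^ m) = r := by
      have := orderOf_pos (x0 : G ⧸ center G)
      rw [orderOf_pow_of_dvd (by rintro rfl; omega) ⟨r, by rw [hm, mul_comm]⟩, hm,
        Nat.mul_div_cancel _ (Nat.pos_of_ne_zero (by rintro rfl; omega))]
    refine ⟨(x0 ^ m) ^ l, r, hp, fun c => hl ?_, ?_, ⟨k, ?_⟩, ((Commute.pow_left hy0 m).pow_left l).eq,
      ((Commute.pow_left hz0 m).pow_left l).eq⟩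
    · rw [← h7, orderOf_dvd_iff_pow_eq_one]
      simpa using (QuotientGroup.eq_one_iff _).2 c
    · rw [← QuotientGroup.eq_one_iff, ← pow_mul, mul_comm l, pow_mul, QuotientGroup.mk_pow, QuotientGroup.mk_pow,
        QuotientGroup.mk_pow, ← h7, pow_orderOf_eq_one, one_pow]
    · rw [← pow_mul, mul_comm l, ← h6, pow_orderOf_eq_one]
  have ab : r = 2 → ∀ T : Sylow 2 G, IsMulCommutative (T : Subgroup G) := by
    rintro rfl T
    by_contra nab
    obtain ⟨w, h5, h6⟩ := tinv h ns hr T nab ⟨k, hk⟩ hx (by rwa [← sq])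
    exact h5 (wit_comm h hr hx hy hz hyz h6)
  have hxN : x ∈ N ⊔ center G := by
    by_cases h2 : r = 2
    · exact in2 hq hne hC ncN (ab h2) (by rwa [← sq, ← h2])
    · exact out h N hq hC e h3 hp h2 hxr
  obtain ⟨n, hn, c, hc, rfl⟩ := mem_sup_of_normal_left.1 hxN
  have cc := mem_center_iff.1 hc
  have cm : ∀ w, n * c * w = w * (n * c) → n * w = w * n := fun w e => by
    rw [mul_assoc, ← cc w, ← mul_assoc, ← mul_assoc] at e; exact mul_right_cancel e
  replace hy := cm y hy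
  replace hz := cm z hz
  replace hx : n ∉ center G := fun e => hx (mul_mem e hc)
  replace hxr : n ^ r ∈ center G := by
    rwa [Commute.mul_pow (cc n), mul_mem_cancel_right (pow_mem hc r)] at hxr
  have zN : ∀ a : N, a ∈ center N ↔ (a : G) ∈ center G := fun a =>
    ⟨fun e => hC (mem_centralizer_iff.2 fun m hm => congrArg Subtype.val (mem_center_iff.1 e ⟨m, hm⟩)),
      fun e => mem_center_iff.2 fun m => Subtype.ext (mem_center_iff.1 e m)⟩
  let u : N := ⟨n, hn⟩
  have := Fact.mk hp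
  have u1 : (u : N ⧸ center N) ≠ 1 := fun e => hx ((zN u).1 ((QuotientGroup.eq_one_iff _).1 e))
  have ho : orderOf (u : N ⧸ center N) = r := orderOf_eq_prime (by
    rw [← QuotientGroup.mk_pow, QuotientGroup.eq_one_iff, zN]; exact hxr) u1
  have nca : ¬ IsMulCommutative (centralizer ({(u : N ⧸ center N)} : Set (N ⧸ center N))) := fun c => by
    obtain ⟨g, h5, h6⟩ := gen ncN (ho ▸ hp) c
    obtain ⟨g, rfl⟩ := QuotientGroup.mk_surjective g
    let D := ((centralizer ({(u : N ⧸ center N)} : Set (N ⧸ center N))).comap (QuotientGroup.mk' _)).map N.subtype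
    have hD : ∀ d, d ∈ D ↔ d ∈ N ∧ n * d * n⁻¹ * d⁻¹ ∈ center G := fun d => by
      constructor
      · rintro ⟨d, hd, rfl⟩
        exact ⟨d.2, (zN _).1 (mk_comm.1 (mem_centralizer_singleton_iff.1 hd).symm)⟩
      · rintro ⟨a, b⟩
        exact ⟨⟨d, a⟩, mem_centralizer_singleton_iff.2 (mk_comm.2 ((zN (u * ⟨d, a⟩ * u⁻¹ * ⟨d, a⟩⁻¹)).2 b)).symm, rfl⟩
    have h7 : ∀ w, n * w = w * n → w ∈ normalizer (D : Set G) := fun w e => by
      refine mem_normalizer_fintype fun d hd => (hD _).2 ⟨hN.conj_mem d ((hD d).1 hd).1 w, ?_⟩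
      have := Normal.conj_mem inferInstance _ ((hD d).1 hd).2 w
      convert this using 1
      have e' : n = w * n * w⁻¹ := by rw [← e]; group
      conv_lhs => rw [e']
      group
    refine h6 (congrArg _ (Subtype.ext ?_) : ((g * u : N) : N ⧸ center N) = (u * g : N))
    by_contra h8
    refine hyz (h _ (fun e => hx (hr D (normalizer_eq_top_iff.1 e) (solv_of ?_) ((hD n).2 ⟨hn, by simp⟩))) n
      (h7 n rfl) g ?_ y (h7 y hy) z (h7 z hz) (fun e => h8 e.symm) hy hz)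
    · rintro _ ⟨a, ha, rfl⟩ _ ⟨b, hb, rfl⟩
      exact (zN (a * b * a⁻¹ * b⁻¹)).1 (mk_comm.1 (congrArg Subtype.val (c.1.1 ⟨a, ha⟩ ⟨b, hb⟩)))
    · refine mem_normalizer_fintype ?_
      rintro _ ⟨d, hd, rfl⟩
      exact ⟨g * d * g⁻¹, (mem_normalizer_iff.1 h5 _).1 hd, rfl⟩
  have h5 : ¬ (e u * e u ≠ 1 ∨ (2 : F) = 0 ∨ Fintype.card F ≤ 5) := fun c => nca ⟨⟨fun a b => Subtype.ext
    (e.injective (by
      have t : ∀ a : centralizer ({(u : N ⧸ center N)} : Set (N ⧸ center N)), e a ∈ centralizer {e u} := fun a => by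
        rw [mem_centralizer_singleton_iff, ← map_mul, ← map_mul, mem_centralizer_singleton_iff.1 a.2]
      rw [coe_mul, coe_mul, map_mul, map_mul]
      exact congrArg Subtype.val ((cab (e u) (by simpa using u1) c).1.1 ⟨_, t a⟩ ⟨_, t b⟩)))⟩⟩
  simp only [not_or, not_not, not_le] at h5
  obtain ⟨h5, h6, h7⟩ := h5
  obtain rfl : r = 2 := (Nat.prime_dvd_prime_iff_eq hp Nat.prime_two).1 (by
    rw [← ho, orderOf_dvd_iff_pow_eq_one, sq]; exact e.injective (by rw [map_mul, h5, map_one]))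
  have ncN' : ¬ CA N := fun c => nca ⟨⟨fun a b => Subtype.ext (by
    obtain ⟨a, ha⟩ := a
    obtain ⟨b, hb⟩ := b
    obtain ⟨a, rfl⟩ := QuotientGroup.mk_surjective a
    obtain ⟨b, rfl⟩ := QuotientGroup.mk_surjective b
    have t : ∀ a : N, (a : N ⧸ center N) ∈ centralizer ({(u : N ⧸ center N)} : Set (N ⧸ center N)) → u * a = a * u :=
      fun a ha => Subtype.ext (wit_comm h hr hx hy hz hyz ((zN (u * a * u⁻¹ * a⁻¹)).1
        (mk_comm.1 (mem_centralizer_singleton_iff.1 ha).symm)))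
    obtain ⟨m, hm⟩ := not_forall.1 (mt mem_center_iff.2 (mt (zN u).1 hx))
    exact congrArg (fun g : N => (g : N ⧸ center N)) (c u m a b (fun e => hm e.symm) (t a ha) (t b hb)))⟩⟩
  have abN : ∀ T : Sylow 2 N, IsMulCommutative (T : Subgroup N) := ab2 (ab rfl) N (MonoidHom.id N) fun a => ⟨a, rfl⟩
  have hodd : Odd (Fintype.card F) := by
    rw [← Nat.not_even_iff_odd, even_iff_two_dvd]
    intro c
    exact h6 (by simpa using (prime_dvd_char_iff_dvd_card (R := F) 2).2 c |> (ringChar.spec F 2).2 ∘ fun d =>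
      ((Nat.prime_dvd_prime_iff_eq Nat.prime_two (CharP.char_is_prime F (ringChar F))).1 d) ▸ dvd_rfl)
  have h8 := z1 hq e hodd h7 default (abN _)
  have e' : N ≃* P F := (QuotientGroup.quotientBot.symm.trans (QuotientGroup.quotientMulEquivOfEq h8.symm)).trans e
  obtain rfl : N = ⊤ := by_contra fun c => ncN' (h.ca c)
  exact ⟨F, _, _, ⟨topEquiv.symm.trans e'⟩, ar ((h.sub ⊤).of_inj e'.symm.toMonoidHom e'.symm.injective)
    (fun c => ncN' (c.of_inj e'.toMonoidHom e'.injective)) h3 (ab2 (ab rfl) ⊤ e'.toMonoidHom e'.surjective)⟩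

end Cfsg.Agent.CAm
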