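import Cfsg.Agent.CAm.A

set_option autoImplicit false

namespace Cfsg.Agent.CAm

open Subgroup MulAction
open scoped Pointwise

namespace OUT

variable {N : Type*} [Group N]

/-- a homomorphism from a perfect group with commuting values is trivial -/
theorem hom_triv {A : Type*} [Group A] (hp : Group.IsPerfect N) (f : N →* A)
    (hc : ∀ x y, f x * f y = f y * f x) (x : N) : f x = 1 := by
  have : commutator N ≤ f.ker := by
    rw [commutator_def, commutator_le]
    intro a _ b _
    rw [MonoidHom.mem_ker, map_commutatorElement, commutatorElement_eq_one_iff_mul_comm]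
    exact hc a b
  exact this (hp.commutator_eq_top ▸ mem_top x)

/-- an automorphism of a perfect group which is trivial modulo the centre is trivial -/
theorem aut_triv (hp : Group.IsPerfect N) (a : MulAut N) (h : ∀ y, a y * y⁻¹ ∈ center N) :
    a = 1 := by
  let f : N →* N := MonoidHom.mk' (fun y => a y * y⁻¹) fun x y => by
    have := mem_center_iff.1 (h y) x⁻¹
    rw [map_mul, mul_inv_rev]
    calc a x * a y * (y⁻¹ * x⁻¹) = a x * ((a y * y⁻¹) * x⁻¹) := by group
      _ = a x * (x⁻¹ * (a y * y⁻¹)) := by rw [this]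
      _ = _ := by group
  refine MulEquiv.ext fun y => ?_
  have := hom_triv hp f (fun x y => mem_center_iff.1 (h y) _) y
  exact mul_inv_eq_one.1 this

theorem qs_normal (q : IsQuasisimple N) (H : Subgroup N) [hH : H.Normal] :
    H ≤ center N ∨ H = ⊤ := by
  have := q.2
  have hs := QuotientGroup.mk'_surjective (center N)
  rcases (hH.map (QuotientGroup.mk' (center N)) hs).eq_bot_or_eq_top with e | e
  · left
    rwa [Subgroup.map_eq_bot_iff, QuotientGroup.ker_mk'] at e
  · right
    have e2 := congrArg (comap (QuotientGroup.mk' (center N))) e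
    rw [comap_map_eq, QuotientGroup.ker_mk', comap_top] at e2
    have := Normal.commutator_le_of_self_sup_commutative_eq_top e2 inferInstance
    rwa [q.1.commutator_eq_top, top_le_iff] at this

theorem p_triv {p : ℕ} [hp : Fact p.Prime] {P K : Subgroup N} (hP : IsPGroup p P)
    (hK : ¬ p ∣ Nat.card K) {a : N} (h1 : a ∈ P) (h2 : a ∈ K) : a = 1 := by
  obtain ⟨k, hk⟩ := hP ⟨a, h1⟩
  have e1 : orderOf a ∣ p ^ k := orderOf_dvd_of_pow_eq_one (congrArg Subtype.val hk)
  have e2 : orderOf a ∣ Nat.card K := K.orderOf_dvd_natCard h2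
  have : Nat.Coprime (p ^ k) (Nat.card K) := ((hp.out.coprime_iff_not_dvd).2 hK).pow_left k
  exact orderOf_eq_one_iff.1 (Nat.eq_one_of_dvd_coprimes this e1 e2)

/-- the hypotheses on the Sylow `p`-subgroups of `N` -/
structure Sy (N : Type*) [Group N] (p q : ℕ) : Prop where
  qs : IsQuasisimple N
  ca : CA N
  card : ∀ P : Sylow p N, Nat.card (P : Subgroup N) = q
  ab : ∀ P : Sylow p N, ∀ a ∈ (P : Subgroup N), ∀ b ∈ (P : Subgroup N), a * b = b * a
  cz : ¬ p ∣ Nat.card (center N)
  num : Nat.card (Sylow p N) ≤ q + 1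
  q1 : 1 < q

variable [Finite N] {p q : ℕ} [hp : Fact p.Prime]

theorem eq_of_norm {P Q : Sylow p N} (h : (Q : Subgroup N) ≤ normalizer (P : Set N)) : Q = P := by
  have h1 := Q.2.inf_normalizer_sylow P
  rw [inf_eq_left.2 h] at h1
  have h2 : (Q : Subgroup N) ≤ P := h1 ▸ inf_le_right
  exact Sylow.ext (Q.3 P.2 h2).symm

theorem Sy.nc (h : Sy N p q) (P : Sylow p N) {u : N} (hu : u ∈ (P : Subgroup N)) (h1 : u ≠ 1) :
    ∃ k, u * k ≠ k * u := by
  by_contra hk
  push Not at hk
  exact h1 (p_triv P.2 h.cz hu (mem_center_iff.2 fun g => (hk g).symm))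

theorem Sy.ti (h : Sy N p q) {P Q : Sylow p N} {u : N} (hu : u ∈ (P : Subgroup N))
    (hv : u ∈ (Q : Subgroup N)) (h1 : u ≠ 1) : Q = P := by
  obtain ⟨k, hk⟩ := h.nc P hu h1
  refine eq_of_norm fun y hy => centralizer_le_normalizer _ ?_
  exact fun z hz => h.ca u k z y hk (h.ab P u hu z hz) (h.ab Q u hv y hy)

theorem Sy.exu (h : Sy N p q) (P : Sylow p N) : ∃ u ∈ (P : Subgroup N), u ≠ 1 := by
  have : (P : Subgroup N) ≠ ⊥ := fun e => by
    have := h.card P
    rw [e, card_bot] at this
    exact h.q1.ne this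
  obtain ⟨⟨u, hu⟩, h1⟩ := ne_bot_iff_exists_ne_one.1 this
  exact ⟨u, hu, fun e => h1 (Subtype.ext e)⟩

theorem Sy.nn (h : Sy N p q) (P : Sylow p N) : ∃ g : N, g • P ≠ P := by
  by_contra hg
  push Not at hg
  have hn : (P : Subgroup N).Normal := normalizer_eq_top_iff.1
    (eq_top_iff.2 fun g _ => Sylow.smul_eq_iff_mem_normalizer.1 (hg g))
  obtain ⟨u, hu, h1⟩ := h.exu P
  obtain ⟨k, hk⟩ := h.nc P hu h1
  rcases qs_normal h.qs (P : Subgroup N) with e | e
  · exact hk (mem_center_iff.1 (e hu) k).symm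
  · exact hk (h.ab P u hu k (e ▸ mem_top k))

theorem Sy.torus (h : Sy N p q) (P : Sylow p N) {u : N} (hu : u ∈ (P : Subgroup N)) (h1 : u ≠ 1) :
    ∃ t : N, t • P = P ∧ u * t ≠ t * u := by
  by_contra ht
  push Not at ht
  obtain ⟨k, hk⟩ := h.nc P hu h1
  have hP : normalizer P ≤ centralizer (P : Set N) := fun t htP z hz =>
    h.ca u k z t hk (h.ab P u hu z hz) (ht t (Sylow.smul_eq_iff_mem_normalizer.2 htP))
  have hc := MonoidHom.ker_transferSylow_isComplement' P hP
  have hm : u ∈ (MonoidHom.transferSylow P hP).ker :=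
    hom_triv h.qs.1 _ (fun x y => Subtype.ext (h.ab P _ (Subtype.prop _) _ (Subtype.prop _))) u
  exact h1 (disjoint_def.1 hc.disjoint hm hu)

theorem conj_aut (a : MulAut N) (w : N) : a * MulAut.conj w = MulAut.conj (a w) * a :=
  MulEquiv.ext fun y => by simp

theorem Sy.l1 (h : Sy N p q) (a : MulAut N) (ha : ∀ Q : Sylow p N, a • Q = Q) : a = 1 := by
  let K := (MulAction.toPermHom N (Sylow p N)).ker
  have hK : ∀ y : N, y ∈ K ↔ ∀ Q : Sylow p N, y • Q = Q := fun y => by
    simp [K, MonoidHom.mem_ker, Equiv.ext_iff]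
  rcases qs_normal h.qs K with e | e
  · refine aut_triv h.qs.1 a fun y => e ((hK _).2 fun Q => ?_)
    rw [mul_smul, Sylow.smul_def (g := a y), ← ha (y⁻¹ • Q), ← mul_smul, ← conj_aut, mul_smul,
      ← Sylow.smul_def, smul_inv_smul, ha]
  · obtain ⟨P⟩ : Nonempty (Sylow p N) := inferInstance
    obtain ⟨g, hg⟩ := h.nn P
    exact (hg ((hK g).1 (e ▸ mem_top g) P)).elim

theorem smul_fix (a : MulAut N) (P : Sylow p N) (ha : ∀ w ∈ (P : Subgroup N), a w = w) :
    a • P = P := by
  refine Sylow.ext (le_antisymm ?_ fun w hw => ?_)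
  · rintro _ ⟨w, hw, rfl⟩
    show a w ∈ (P : Subgroup N)
    rwa [ha w hw]
  · exact ⟨w, hw, ha w hw⟩

theorem Sy.l2 (h : Sy N p q) (P : Sylow p N) (a : MulAut N)
    (ha : ∀ w ∈ (P : Subgroup N), a w = w) : ∃ v ∈ (P : Subgroup N), a = MulAut.conj v := by
  obtain ⟨g, hg⟩ := h.nn P
  set Q := g • P with hQ
  have hPP : ∀ w ∈ (P : Subgroup N), w • P = P := fun w hw =>
    Sylow.smul_eq_iff_mem_normalizer.2 (le_normalizer hw)
  let f : Option (P : Subgroup N) → Sylow p N := fun o => o.elim P fun w => (w : N) • Q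
  have hne : ∀ w : (P : Subgroup N), (w : N) • Q ≠ P := fun w e =>
    hg (by rw [← inv_smul_smul (w : N) Q, e, hPP _ (inv_mem w.2)])
  have inj : Function.Injective f := by
    rintro (_ | w) (_ | w') e
    · rfl
    · exact (hne w' e.symm).elim
    · exact (hne w e).elim
    · have e1 : ((w' : N)⁻¹ * w) • Q = Q := by
        rw [mul_smul, show (w : N) • Q = (w' : N) • Q from e, inv_smul_smul]
      have m1 : (w' : N)⁻¹ * w ∈ (P : Subgroup N) := mul_mem (inv_mem w'.2) w.2
      have m2 : (w' : N)⁻¹ * w ∈ (P : Subgroup N) ⊓ normalizer Q :=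
        ⟨m1, Sylow.smul_eq_iff_mem_normalizer.1 e1⟩
      rw [P.2.inf_normalizer_sylow Q] at m2
      by_contra hw
      exact hg (h.ti m1 m2.2 fun e2 => hw (congrArg some
        (Subtype.ext (inv_mul_eq_one.1 e2).symm)))
  have bij := inj.bijective_of_nat_card_le (by rw [Finite.card_option, h.card]; exact h.num)
  have haP := smul_fix a P ha
  obtain ⟨o, ho⟩ := bij.2 (a • Q)
  rcases o with _ | v
  · exact (hg (smul_left_cancel a (by rw [haP]; exact ho.symm))).elim
  have hv : (v : N) • Q = a • Q := ho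
  refine ⟨v, v.2, (inv_mul_eq_one.1 (h.l1 _ fun R => ?_)).symm⟩
  have hb : ∀ w ∈ (P : Subgroup N), ((MulAut.conj (v : N))⁻¹ * a) w = w := fun w hw => by
    rw [MulAut.mul_apply, ha w hw, MulAut.conj_inv_apply, mul_assoc, h.ab P w hw v v.2]
    group
  obtain ⟨o, rfl⟩ := bij.2 R
  rcases o with _ | w
  · exact smul_fix _ P hb
  · show ((MulAut.conj (v : N))⁻¹ * a) • (MulAut.conj (w : N) • Q) = MulAut.conj (w : N) • Q
    rw [← mul_smul, conj_aut, hb w w.2, mul_smul, mul_smul, ← hv, Sylow.smul_def, inv_smul_smul]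

/-- the order bound -/
theorem core {G : Type*} [Group G] [Finite G] (h : MC G) (N : Subgroup G) [N.Normal]
    (hs : Sy N p q) (hC : centralizer (N : Set G) ≤ center G) :
    (center G).index ≤ q * ((q - 1) * (q + 1)) := by
  obtain ⟨P⟩ : Nonempty (Sylow p N) := inferInstance
  obtain ⟨u, hu, h1⟩ := hs.exu P
  obtain ⟨t, ht, htu⟩ := hs.torus P hu h1
  obtain ⟨g, hg⟩ := hs.nn P
  set S1 := stabilizer (MulAut N) P with hS1
  set S := stabilizer (MulAut N) u ⊓ S1 with hS
  have i1 : S1.index ≤ q + 1 := by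
    rw [hS1, index_stabilizer]
    exact (Set.ncard_le_card _).trans hs.num
  have i2 : S.relIndex S1 ≤ q - 1 := by
    rw [hS, inf_relIndex_right]
    have : (stabilizer (MulAut N) u).relIndex S1 = (stabilizer S1 u).index := rfl
    rw [this, index_stabilizer, ← hs.card P]
    have hsub : orbit S1 u ⊆ ((P : Subgroup N) : Set N) \ {1} := by
      rintro _ ⟨a, rfl⟩
      refine ⟨?_, fun e => h1 ?_⟩
      · have : (a : MulAut N) • P = P := a.2
        rw [← this]
        exact ⟨u, hu, rfl⟩
      · exact (MulEquiv.map_eq_one_iff (a : MulAut N)).1 e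
    refine (Set.ncard_le_ncard hsub).trans ?_
    rw [Set.ncard_sdiff_singleton_of_mem (one_mem (P : Subgroup N))]
    exact le_of_eq rfl
  have i3 : S.index ≤ (q - 1) * (q + 1) := by
    rw [← relIndex_mul_index (inf_le_right : S ≤ S1)]
    exact Nat.mul_le_mul i2 i1
  set D := S.comap (MulAut.conjNormal : G →* MulAut N) with hD
  have i4 : D.index ≤ S.index := by
    rw [hD, index_comap, ← relIndex_top_right]
    exact relIndex_le_of_le_right le_top (by rw [relIndex_top_right]; exact index_ne_zero_of_finite)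
  set B := S1.comap (MulAut.conjNormal : G →* MulAut N) with hB
  have mB : ∀ y : N, (y : G) ∈ B ↔ y • P = P := fun y => by
    rw [hB, mem_comap, MulAut.conjNormal_val]; rfl
  have hBt : B ≠ ⊤ := fun e => hg ((mB g).1 (e ▸ mem_top _))
  have hPB : ∀ w ∈ (P : Subgroup N), (w : G) ∈ B := fun w hw =>
    (mB w).2 (Sylow.smul_eq_iff_mem_normalizer.2 (le_normalizer hw))
  set U := (P : Subgroup N).map N.subtype with hU
  have hDU : D ≤ U ⊔ center G := by
    intro d hd
    have d1 : MulAut.conjNormal d u = u := hd.1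
    have d2 : (u : G) * d = d * u := by
      have := congrArg Subtype.val d1
      rw [MulAut.conjNormal_apply] at this
      exact (mul_inv_eq_iff_eq_mul.1 this).symm
    obtain ⟨v, hv, e⟩ := hs.l2 P (MulAut.conjNormal d) fun w hw => Subtype.ext (by
      rw [MulAut.conjNormal_apply, mul_inv_eq_iff_eq_mul]
      exact h B hBt u (hPB u hu) t ((mB t).2 ht) d hd.2 w (hPB w hw)
        (fun e => htu (Subtype.ext e)) d2 (congrArg Subtype.val (hs.ab P u hu w hw)))
    have hz : (v : G)⁻¹ * d ∈ center G := hC fun y hy => by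
      have := congrArg Subtype.val (DFunLike.congr_fun e ⟨y, hy⟩)
      rw [MulAut.conjNormal_apply] at this
      have e2 : d * y * d⁻¹ = v * y * (v : G)⁻¹ := this
      calc y * ((v : G)⁻¹ * d) = (v : G)⁻¹ * (v * y * (v : G)⁻¹) * d := by group
        _ = (v : G)⁻¹ * (d * y * d⁻¹) * d := by rw [e2]
        _ = _ := by group
    rw [← mul_inv_cancel_left (v : G) d]
    exact mul_mem_sup ⟨v, hv, rfl⟩ hz
  have i5 : (center G).relIndex (U ⊔ center G) ≤ q := by
    rw [relIndex_sup_right, ← hs.card P, ← card_map_of_injective N.subtype_injective]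
    exact Nat.le_of_dvd Nat.card_pos (relIndex_dvd_card _ _)
  rw [← relIndex_mul_index (le_sup_right : center G ≤ U ⊔ center G)]
  exact Nat.mul_le_mul i5 ((index_antitone hDU).trans (i4.trans i3))

end OUT

end Cfsg.Agent.CAm
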