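import Cfsg.Agent.CAm.A

set_option autoImplicit false

namespace Cfsg.Agent.CAm.R2

open Subgroup

variable {G : Type*} [Group G]

/-- projection modulo the centre -/
abbrev pz (g : G) : G ⧸ center G := QuotientGroup.mk g

theorem fx {g q : G} : Commute (pz g) (pz q) ↔ q⁻¹ * (g * q * g⁻¹) ∈ center G := by
  rw [← QuotientGroup.eq, commute_iff_eq, QuotientGroup.mk_mul, QuotientGroup.mk_mul,
    QuotientGroup.mk_inv, eq_mul_inv_iff_mul_eq, eq_comm]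

theorem zc {z : G} (hz : z ∈ center G) (g : G) : g * z * g⁻¹ = z := by
  rw [mem_center_iff.1 hz g]; group

theorem odd_mem {K : Subgroup G} {c : G} {r : ℕ} (hr : Odd r) (h2 : c * c ∈ K) (h : c ^ r ∈ K) :
    c ∈ K := by
  obtain ⟨k, rfl⟩ := hr
  rw [pow_succ, pow_mul, pow_two] at h
  exact (K.mul_mem_cancel_left (pow_mem h2 k)).1 h

theorem sq {g q : G} (h2 : q * q ∈ center G) (h : Commute (pz g) (pz q)) :
    g * g * q = q * (g * g) := by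
  obtain ⟨z, hz, e⟩ : ∃ z ∈ center G, g * q * g⁻¹ = q * z := ⟨_, fx.1 h, by group⟩
  have c := fun a => mem_center_iff.1 hz a
  have e2 : z * z = 1 := by
    apply mul_left_cancel (a := q * q)
    calc _ = q * z * (q * z) := by rw [mul_assoc q z, ← mul_assoc z, ← c q]; group
      _ = g * (q * q) * g⁻¹ := by rw [← e]; group
      _ = _ := by rw [zc h2, mul_one]
  calc _ = g * (g * q * g⁻¹) * g := by group
    _ = g * (q * z) * g := by rw [e]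
    _ = (g * q * g⁻¹) * (g * z * g⁻¹) * (g * g) := by group
    _ = _ := by rw [e, zc hz, mul_assoc q, e2, mul_one]

theorem pw {g q c : G} {r : ℕ} (hr : Odd r) (e : g * q * g⁻¹ = q * c) (hc : g * c = c * g)
    (h2 : c * c ∈ center G) (h : Commute (pz (g ^ r)) (pz q)) : c ∈ center G := by
  have : ∀ k : ℕ, g ^ k * q * (g ^ k)⁻¹ = q * c ^ k := fun k => by
    induction k with
    | zero => simp
    | succ k ih =>
      have : g * c ^ k * g⁻¹ = c ^ k := by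
        rw [((show Commute g c from hc).pow_right k).eq]; group
      calc _ = g * (g ^ k * q * (g ^ k)⁻¹) * g⁻¹ := by group
        _ = (g * q * g⁻¹) * (g * c ^ k * g⁻¹) := by rw [ih]; group
        _ = _ := by rw [e, this]; group
  have h' := fx.1 h
  rw [this, inv_mul_cancel_left] at h'
  exact odd_mem hr h2 h'

section
variable {Γ : Type*} [Group Γ] {Q H : Subgroup G} [hn : Q.Normal] (QH : Q ≤ H)
  (ca : ∀ x ∈ H, ∀ h ∈ H, ∀ y ∈ H, ∀ z ∈ H,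
    x * h ≠ h * x → x * y = y * x → x * z = z * x → y * z = z * y)
  (q2 : ∀ q ∈ Q, q * q ∈ center G) {ρ : G →* Γ}
  (hρ : ∀ g, ρ g = 1 ↔ ∀ q ∈ Q, Commute (pz g) (pz q))
include QH ca q2 hρ

omit QH ca q2 in
theorem sqa {i q : G} (ii : ρ (i * i) = 1) (hq : q ∈ Q) :
    i * i * (q⁻¹ * (i * q * i⁻¹)) = q⁻¹ * (i * q * i⁻¹) * (i * i) := by
  obtain ⟨z, hz, e⟩ : ∃ z ∈ center G, i * i * q * (i * i)⁻¹ = q * z :=
    ⟨_, fx.1 ((hρ _).1 ii q hq), by group⟩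
  calc _ = (i * i * q * (i * i)⁻¹)⁻¹ * (i * (i * i * q * (i * i)⁻¹) * i⁻¹) * (i * i) := by
        simp [mul_assoc]
    _ = z⁻¹ * (q⁻¹ * (i * q * i⁻¹)) * (i * z * i⁻¹) * (i * i) := by rw [e]; group
    _ = _ := by rw [zc hz, ← mem_center_iff.1 (inv_mem hz)]; group

theorem abel (ab : ∀ a ∈ Q, ∀ b ∈ Q, a * b = b * a) {i x : G} (hi : i ∈ H) (hx : x ∈ H)
    (i1 : ρ i ≠ 1) (ii : ρ (i * i) = 1) (x1 : ρ x ≠ 1) {r : ℕ} (hr : Odd r) (xr : ρ (x ^ r) = 1)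
    (ix : ρ (i * x * i⁻¹ * x) = 1) : False := by
  let S := Q ⊓ centralizer (H : Set G)
  have mS : ∀ {s}, s ∈ S ↔ s ∈ Q ∧ ∀ h ∈ H, h * s = s * h := Iff.rfl
  have zS : ∀ {s}, s ∈ Q → s ∈ center G → s ∈ S := fun a b =>
    mS.2 ⟨a, fun h _ => mem_center_iff.1 b h⟩
  have key : ∀ a ∈ Q, a ∉ S → ∀ g ∈ H, g * a = a * g → ∀ q ∈ Q, g * q = q * g := by
    intro a ha hS g hg e q hq
    obtain ⟨k, hk⟩ := not_forall.1 fun h => hS (mS.2 ⟨ha, h⟩)
    obtain ⟨kH, hk⟩ := Classical.not_imp.1 hk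
    exact ca a (QH ha) k kH g hg q (QH hq) (fun e => hk e.symm) e.symm (ab a ha q hq)
  have ni : ¬ ∀ q ∈ Q, i * q = q * i := fun h => i1 ((hρ _).2 fun q hq =>
    congrArg (QuotientGroup.mk (s := center G)) (h q hq))
  have cj : ∀ g, ∀ q ∈ Q, q⁻¹ * (g * q * g⁻¹) ∈ Q := fun g q hq =>
    mul_mem (inv_mem hq) (hn.1 q hq g)
  have i2 : ∀ q ∈ Q, i * i * q = q * (i * i) := by
    intro q hq
    by_cases h0 : q ∈ S
    · exact (mS.1 h0).2 _ (mul_mem hi hi)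
    by_cases h1 : q⁻¹ * (i * q * i⁻¹) ∈ S
    · obtain ⟨a, ha, e⟩ : ∃ a ∈ S, i * q * i⁻¹ = q * a := ⟨_, h1, by group⟩
      have e2 : a * a = 1 := by
        apply mul_left_cancel (a := q * q)
        calc _ = q * a * (q * a) := by rw [mul_assoc q a, ← mul_assoc a, ab a ha.1 q hq]; group
          _ = i * (q * q) * i⁻¹ := by rw [← e]; group
          _ = _ := by rw [zc (q2 q hq), mul_one]
      calc _ = i * (i * q * i⁻¹) * i := by group
        _ = i * (q * a) * i := by rw [e]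
        _ = (i * q * i⁻¹) * (i * a) * i := by group
        _ = q * (a * a) * (i * i) := by rw [e, (mS.1 ha).2 i hi]; group
        _ = _ := by rw [e2, mul_one]
    · exact key _ (cj i q hq) h1 _ (mul_mem hi hi) (sqa hρ ii hq) q hq
  let D : Subgroup G :=
    { carrier := {g | g ∈ H ∧ ∀ q ∈ Q, q⁻¹ * (g * q * g⁻¹) ∈ S}
      mul_mem' := by
        rintro g g' ⟨a, b⟩ ⟨a', b'⟩
        refine ⟨mul_mem a a', fun q hq => ?_⟩
        have := mul_mem (b q hq) (b' q hq)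
        rwa [show q⁻¹ * (g * q * g⁻¹) * (q⁻¹ * (g' * q * g'⁻¹)) =
          q⁻¹ * (g * q) * (g⁻¹ * (q⁻¹ * (g' * q * g'⁻¹))) by group,
          (mS.1 (b' q hq)).2 _ (inv_mem a),
          show q⁻¹ * (g * q) * (q⁻¹ * (g' * q * g'⁻¹) * g⁻¹) =
            q⁻¹ * (g * g' * q * (g * g')⁻¹) by group] at this
      one_mem' := ⟨one_mem _, fun q _ => by simpa using one_mem S⟩
      inv_mem' := by
        rintro g ⟨a, b⟩
        refine ⟨inv_mem a, fun q hq => ?_⟩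
        have := inv_mem (b _ (hn.1 q hq g⁻¹))
        rwa [show ((g⁻¹ * q * g⁻¹⁻¹)⁻¹ * (g * (g⁻¹ * q * g⁻¹⁻¹) * g⁻¹))⁻¹ =
          q⁻¹ * (g⁻¹ * q * g⁻¹⁻¹) by group] at this }
  have mD : ∀ {g}, g ∈ D ↔ g ∈ H ∧ ∀ q ∈ Q, q⁻¹ * (g * q * g⁻¹) ∈ S := Iff.rfl
  have kD : ∀ g ∈ H, ρ g = 1 → g ∈ D := fun g a b =>
    mD.2 ⟨a, fun q hq => zS (cj g q hq) (fx.1 ((hρ g).1 b q hq))⟩
  have iD : i ∈ D := mD.2 ⟨hi, fun q hq => by
    have b : q * (i * q * i⁻¹) ∈ S := by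
      by_contra h
      refine ni (key _ (mul_mem hq (hn.1 q hq i)) h i hi ?_)
      calc _ = (i * q * i⁻¹) * (i * i * q) * i⁻¹ := by group
        _ = (i * q * i⁻¹) * q * i := by rw [i2 q hq]; group
        _ = _ := by rw [ab _ (hn.1 q hq i) q hq]
    have := mul_mem (inv_mem (zS (mul_mem hq hq) (q2 q hq))) b
    rwa [show (q * q)⁻¹ * (q * (i * q * i⁻¹)) = q⁻¹ * (i * q * i⁻¹) by group] at this⟩
  have jD : x * i * x⁻¹ ∈ D := mD.2 ⟨mul_mem (mul_mem hx hi) (inv_mem hx), fun q hq => by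
    have h := (mD.1 iD).2 _ (hn.1 q hq x⁻¹)
    have e := (mS.1 h).2 x hx
    rwa [show q⁻¹ * (x * i * x⁻¹ * q * (x * i * x⁻¹)⁻¹) = x * ((x⁻¹ * q * x⁻¹⁻¹)⁻¹ *
      (i * (x⁻¹ * q * x⁻¹⁻¹) * i⁻¹)) * x⁻¹ by group, e, mul_inv_cancel_right]⟩
  have dD := kD _ (mul_mem (mul_mem (mul_mem hi hx) (inv_mem hi)) hx) ix
  have x2 : x * x ∈ D := by
    have := mul_mem jD (mul_mem (inv_mem iD) dD)
    rwa [show x * i * x⁻¹ * (i⁻¹ * (i * x * i⁻¹ * x)) = x * x by group] at this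
  have xD : x ∈ D := odd_mem hr x2 (kD _ (pow_mem hx r) xr)
  refine x1 ((hρ x).2 fun q hq => fx.2 ?_)
  have h := (mD.1 xD).2 q hq
  exact pw (g := x) (q := q) hr (by group) ((mS.1 h).2 x hx) (q2 _ h.1) ((hρ _).1 xr q hq)

theorem fpf (hZ : ∀ a ∈ Q, (∀ q ∈ Q, a * q = q * a) → a ∈ center G)
    (cq : ∀ a ∈ Q, ∀ b ∈ Q, Commute (pz a) (pz b)) {y : G} (hy : y ∈ H) (y1 : ρ y ≠ 1) {r : ℕ}
    (hr : Odd r) (yr : ρ (y ^ r) = 1) {a : G} (ha : a ∈ Q) (h : Commute (pz y) (pz a)) :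
    a ∈ center G := by
  by_contra aZ
  obtain ⟨k, hk⟩ := not_forall.1 fun h => aZ (hZ a ha h)
  obtain ⟨kQ, hk⟩ := Classical.not_imp.1 hk
  have e := sq (q2 a ha) h
  refine y1 (odd_mem (K := ρ.ker) hr ((hρ _).2 fun q hq => fx.2 ?_) yr)
  have cQ : q⁻¹ * (y * y * q * (y * y)⁻¹) ∈ Q := mul_mem (inv_mem hq) (hn.1 q hq _)
  refine pw (g := y * y) (q := q) hr (by group) ?_ (q2 _ cQ) ((hρ _).1 ?_ q hq)
  · refine ca a (QH ha) k (QH kQ) _ (mul_mem hy hy) _ (QH cQ) hk e.symm ?_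
    generalize y * y = g at e
    have z := zc (fx.1 (cq q hq a ha)) g
    have e1 : g * a * g⁻¹ = a := by rw [e]; group
    have : a⁻¹ * ((g * q * g⁻¹) * a * (g * q * g⁻¹)⁻¹) = a⁻¹ * (q * a * q⁻¹) := by
      rw [← z]; conv_lhs => rw [← e1]
      group
    have := mul_left_cancel this
    calc _ = q⁻¹ * (q * a * q⁻¹) * (g * q * g⁻¹) := by group
      _ = _ := by rw [← this]; group
  · rw [← pow_two, ← pow_mul, mul_comm, pow_mul, map_pow, yr, one_pow]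

omit q2 in
theorem exj (q2 : ∀ q ∈ Q, q * q ∈ center G)
    (cq : ∀ a ∈ Q, ∀ b ∈ Q, Commute (pz a) (pz b)) {i : G} (hi : i ∈ H) (i1 : ρ i ≠ 1)
    (ii : ρ (i * i) = 1) : ∃ j ∈ H, ρ j = ρ i ∧ ∀ q ∈ Q, j * j * q = q * (j * j) := by
  obtain ⟨w, hw⟩ := not_forall.1 fun h => i1 ((hρ i).2 h)
  obtain ⟨wQ, hw⟩ := Classical.not_imp.1 hw
  have iw : i * w ≠ w * i := fun e => hw (congrArg (QuotientGroup.mk (s := center G)) e)
  by_cases h0 : ∀ q ∈ Q, i * i * q = q * (i * i)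
  · exact ⟨i, hi, rfl, h0⟩
  obtain ⟨k, hk⟩ := not_forall.1 h0
  obtain ⟨kQ, hk⟩ := Classical.not_imp.1 hk
  obtain ⟨a, aQ, e, s⟩ : ∃ a ∈ Q, i * w * i⁻¹ = w * a ∧ i * i * a = a * (i * i) :=
    ⟨_, mul_mem (inv_mem wQ) (hn.1 w wQ i), by group, sqa hρ ii wQ⟩
  have ia : i * a = a * i := ca _ (mul_mem hi hi) k (QH kQ) i hi a (QH aQ) hk (mul_assoc _ _ _) s
  have awa : a * w * a = w := by
    apply mul_left_cancel (a := w)
    calc _ = w * a * (w * a) := by group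
      _ = i * (w * w) * i⁻¹ := by rw [← e]; group
      _ = _ := zc (q2 w wQ) i
  have e' : i * w = w * a * i := by rw [← e]; group
  refine ⟨i * w, mul_mem hi (QH wQ), by rw [map_mul, (hρ w).2 (cq w wQ), mul_one], fun q hq => ?_⟩
  by_contra hne
  have hH := mul_mem hi (QH wQ)
  have := ca _ (mul_mem hH hH) q (QH hq) _ hH w (QH wQ) hne (mul_assoc _ _ _) (by
    calc i * w * (i * w) * w = (w * a * i) * (w * a * i) * w := by rw [e']
      _ = w * a * (i * w) * a * i * w := by group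
      _ = w * a * (w * a * i) * a * i * w := by rw [e']
      _ = w * (a * w * a) * (i * a) * i * w := by group
      _ = w * (w * a * i * (i * w)) := by rw [awa, ia]; group
      _ = _ := by rw [← e'])
  exact iw (mul_right_cancel (this.trans (mul_assoc _ _ _).symm))

omit hρ in
theorem idx (hZ : ∀ a ∈ Q, (∀ q ∈ Q, a * q = q * a) → a ∈ center G)
    (cq : ∀ a ∈ Q, ∀ b ∈ Q, Commute (pz a) (pz b)) {j : G} (hj : j ∈ H)
    (jj : ∀ q ∈ Q, j * j * q = q * (j * j)) {w1 w2 : G} (h1 : w1 ∈ Q) (h2 : w2 ∈ Q)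
    (n1 : ¬ Commute (pz j) (pz w1)) (n2 : ¬ Commute (pz j) (pz w2)) :
    Commute (pz j) (pz (w1⁻¹ * w2)) := by
  have A : ∀ w ∈ Q, ∃ a ∈ Q, j * w * j⁻¹ = w * a ∧ j * a⁻¹ * j⁻¹ = a ∧ j * w * a = a * (j * w) ∧
      (a ∈ center G → Commute (pz j) (pz w)) := fun w hw => by
    obtain ⟨a, aQ, e⟩ : ∃ a ∈ Q, j * w * j⁻¹ = w * a :=
      ⟨_, mul_mem (inv_mem hw) (hn.1 w hw j), by group⟩
    have ea : a = w⁻¹ * (j * w * j⁻¹) := by rw [e]; group
    have f1 : j * a⁻¹ * j⁻¹ = a := by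
      calc _ = (j * j * w⁻¹) * j⁻¹ * w * j⁻¹ := by rw [ea]; simp [mul_assoc]
        _ = _ := by rw [jj _ (inv_mem hw), ea]; simp [mul_assoc]
    have awa : w * a = a⁻¹ * w := by
      rw [eq_inv_mul_iff_mul_eq]
      apply mul_left_cancel (a := w)
      calc _ = w * a * (w * a) := by group
        _ = j * (w * w) * j⁻¹ := by rw [← e]; group
        _ = _ := zc (q2 w hw) j
    refine ⟨a, aQ, e, f1, ?_, fun h => fx.2 (ea ▸ h)⟩
    rw [mul_assoc, awa]; conv_rhs => rw [← f1]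
    group
  obtain ⟨a2, aQ, e2, f2, g2, z2⟩ := A w2 h2
  have f5 : ∀ w ∈ Q, ¬ Commute (pz j) (pz w) → Commute (w⁻¹ * w2) a2 := fun w hw n => by
    obtain ⟨a, aQ', e, f, g, z⟩ := A w hw
    obtain ⟨k, hk⟩ := not_forall.1 fun h => n (z (hZ a aQ' h))
    obtain ⟨kQ, hk⟩ := Classical.not_imp.1 hk
    obtain ⟨c, hc, ec⟩ : ∃ c ∈ center G, w * a2⁻¹ * w⁻¹ = a2⁻¹ * c :=
      ⟨_, fx.1 (cq w hw _ (inv_mem aQ)), by group⟩
    have cc : c * c = 1 := by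
      apply mul_left_cancel (a := a2⁻¹ * a2⁻¹)
      calc _ = a2⁻¹ * c * (a2⁻¹ * c) := by
            rw [mul_assoc _ c, ← mul_assoc c, ← mem_center_iff.1 hc a2⁻¹]; group
        _ = w * (a2⁻¹ * a2⁻¹) * w⁻¹ := by rw [← ec]; group
        _ = _ := by rw [zc (q2 _ (inv_mem aQ)), mul_one]
    have e3 : w * a2 * w⁻¹ = a2 * c := by
      calc _ = (w * a2⁻¹ * w⁻¹)⁻¹ := by group
        _ = _ := by rw [ec, mul_inv_rev, inv_inv, inv_eq_of_mul_eq_one_left cc,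
          mem_center_iff.1 hc]
    have e4 : w * (a * a2 * a⁻¹) * w⁻¹ = w * a2 * w⁻¹ := by
      calc _ = (w * a) * a2 * (w * a)⁻¹ := by group
        _ = (j * w * j⁻¹) * (j * a2⁻¹ * j⁻¹) * (j * w * j⁻¹)⁻¹ := by rw [e, f2]
        _ = j * (w * a2⁻¹ * w⁻¹) * j⁻¹ := by group
        _ = (j * a2⁻¹ * j⁻¹) * (j * c * j⁻¹) := by rw [ec]; group
        _ = _ := by rw [f2, zc hc, e3]
    have e5 : a * a2 = a2 * a := mul_inv_eq_iff_eq_mul.1 (mul_left_cancel (mul_right_cancel e4))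
    have := ca a (QH aQ') k (QH kQ) _ (mul_mem hj (QH hw)) a2 (QH aQ) hk g.symm e5
    have := (show Commute (j * w) a2 from this).inv_left.mul_left (show Commute (j * w2) a2 from g2)
    rwa [show (j * w)⁻¹ * (j * w2) = w⁻¹ * w2 by group] at this
  by_contra n3
  have m2 : Commute w2 a2 := by
    have := (f5 w1 h1 n1).mul_left (f5 _ (mul_mem (inv_mem h1) h2) n3)
    rwa [show w1⁻¹ * w2 * ((w1⁻¹ * w2)⁻¹ * w2) = w2 by group] at this
  have m3 : ∀ w ∈ Q, ¬ Commute (pz j) (pz w) → Commute w a2 := fun w hw n => by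
    have := m2.mul_left (f5 w hw n).inv_left
    rwa [show w2 * (w⁻¹ * w2)⁻¹ = w by group] at this
  refine n2 (z2 (hZ a2 aQ fun q hq => ?_))
  by_cases n : Commute (pz j) (pz q)
  · have := (m3 _ (mul_mem hq h2) fun h => n2 (by
      have := n.inv_right.mul_right h
      rwa [show (pz q)⁻¹ * pz (q * w2) = pz w2 by simp [pz]] at this)).mul_left m2.inv_left
    rw [mul_inv_cancel_right] at this
    exact this.symm.eq
  · exact (m3 q hq n).symm.eq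

theorem nonab (hZ : ∀ a ∈ Q, (∀ q ∈ Q, a * q = q * a) → a ∈ center G)
    (cq : ∀ a ∈ Q, ∀ b ∈ Q, Commute (pz a) (pz b)) {i x : G} (hi : i ∈ H) (hx : x ∈ H)
    (i1 : ρ i ≠ 1) (ii : ρ (i * i) = 1) (x1 : ρ x ≠ 1) {r : ℕ} (hr : Odd r) (xr : ρ (x ^ r) = 1)
    (ix : ρ (i * x * i⁻¹ * x) = 1) : Nat.card (Q.map (QuotientGroup.mk' (center G))) ≤ 4 := by
  obtain ⟨j, hj, e, jj⟩ := exj QH ca hρ q2 cq hi i1 ii
  have I := fun {w1 w2 : G} => idx QH ca q2 hZ cq hj jj (w1 := w1) (w2 := w2)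
  have J : ∀ w1 ∈ Q, ∀ w2 ∈ Q, (Commute (pz j) (pz w1) ↔ Commute (pz j) (pz w2)) →
      Commute (pz j) (pz (w1⁻¹ * w2)) := fun w1 h1 w2 h2 h => by
    by_cases n : Commute (pz j) (pz w1)
    · exact n.inv_right.mul_right (h.1 n)
    · exact I h1 h2 n fun k => n (h.2 k)
  have cj : ∀ w : G, Commute (pz j) (pz (x⁻¹ * w * x)) ↔ Commute (pz (x * j * x⁻¹)) (pz w) := by
    intro w
    simp only [commute_iff_eq, QuotientGroup.mk_mul, QuotientGroup.mk_inv]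
    constructor <;> intro h
    · calc _ = pz x * (pz j * ((pz x)⁻¹ * pz w * pz x)) * (pz x)⁻¹ := by group
        _ = _ := by rw [h]; group
    · calc _ = (pz x)⁻¹ * (pz x * pz j * (pz x)⁻¹ * pz w) * pz x := by group
        _ = _ := by rw [h]; group
  have inj : Function.Injective fun w : Q.map (QuotientGroup.mk' (center G)) =>
      (Commute (pz j) w.1, Commute (pz (x * j * x⁻¹)) w.1) := by
    rintro ⟨_, w1, h1, rfl⟩ ⟨_, w2, h2, rfl⟩ h
    obtain ⟨k1, k2⟩ := Prod.mk.inj h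
    have c1 := J w1 h1 w2 h2 (Eq.to_iff k1)
    have c2 := J _ (hn.conj_mem' w1 h1 x) _ (hn.conj_mem' w2 h2 x)
      ((cj w1).trans ((Eq.to_iff k2).trans (cj w2).symm))
    rw [show (x⁻¹ * w1 * x)⁻¹ * (x⁻¹ * w2 * x) = x⁻¹ * (w1⁻¹ * w2) * x by group, cj] at c2
    have ey : ρ (x * j * x⁻¹ * j⁻¹) = ρ (x * x) := by
      simp only [map_mul, map_inv, e] at ix ⊢
      rw [← mul_one (ρ x * ρ i * (ρ x)⁻¹ * (ρ i)⁻¹), ← ix]; group
    refine Subtype.ext (QuotientGroup.eq.2 (fpf QH ca q2 hρ hZ cq (y := x * j * x⁻¹ * j⁻¹)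
      (mul_mem (mul_mem (mul_mem hx hj) (inv_mem hx)) (inv_mem hj)) ?_ hr ?_
      (mul_mem (inv_mem h1) h2) (c2.mul_left c1.inv_left)))
    · rw [ey]; exact fun h => x1 (odd_mem (K := ρ.ker) hr h xr)
    · rw [map_pow, ey, ← map_pow, ← pow_two, ← pow_mul, mul_comm, pow_mul, map_pow, xr, one_pow]
  have := Nat.card_le_card_of_injective _ inj
  simpa using this

end

end Cfsg.Agent.CAm.R2
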